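import Mathlib

/-!
THEOREM BETA-FF, CLAIM A (284 #19171 (2), #19509 (1)) by 569's argument #19664: type-free, no count.

`Cl P S MM Q V E F W B L R`: `L ≤ V`, `Q ⊴ P`, `MM` contains every proper subgroup of `P` over `S`,
`[E, W] ≤ F`, `F` centralises `W`, `B ≤ W ∩ Q`, (a) `C_V(B) ≤ L F`, (b) `C_V(Q) ≤ L`,
`L` and `V` are `P`-invariant, `R` is a subgroup such that `C_R(W^h) = 1` for all `h ∈ P` with
`W^h` not in `MM`, and `R` contains no `P`-invariant subgroup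
(`R = Z` with `C_Z(P) = 1`: `Cl.of_center`; or `R` = a root line).

`Cl.claim`: if `L ≤ LL ≤ V` is `S`-invariant, `[LL, Q] ≤ R` and `LL` is not inside `L`, then
`LL^g` is not inside `E` for some `g ∈ P` such that `W^(g⁻¹)` is not inside `MM`.
-/

namespace Cfsg.Agent.Omega.NO3S.BetaFF.ClaimA

variable {G : Type*} [Group G]

/-- The data of CLAIM A without the subgroup `R`. -/
structure Cb (P S MM Q V E F W B L : Subgroup G) : Prop where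
  S_le : S ≤ P
  /-- `MM` contains every proper subgroup of `P` over `S` -/
  max : ∀ H : Subgroup G, S ≤ H → H ≤ P → ¬ H ≤ MM → P ≤ H
  W_le : W ≤ P
  /-- `W` is moved out of `MM` by some element of `P` -/
  move : ∃ h ∈ P, ∃ w ∈ W, h * w * h⁻¹ ∉ MM
  Q_norm : ∀ g ∈ P, ∀ x ∈ Q, g * x * g⁻¹ ∈ Q
  V_norm : ∀ g ∈ P, ∀ x ∈ V, g * x * g⁻¹ ∈ V
  L_norm : ∀ g ∈ P, ∀ x ∈ L, g * x * g⁻¹ ∈ L
  L_le : L ≤ V
  EW : ∀ e ∈ E, ∀ w ∈ W, w * e * w⁻¹ * e⁻¹ ∈ F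
  FW : ∀ f ∈ F, ∀ w ∈ W, w * f = f * w
  B_Q : B ≤ Q
  B_W : B ≤ W
  /-- (a) -/
  a : ∀ x ∈ V, (∀ b ∈ B, b * x = x * b) → ∃ l ∈ L, ∃ f ∈ F, x = l * f
  /-- (b) -/
  b : ∀ x ∈ V, (∀ c ∈ Q, c * x = x * c) → x ∈ L

/-- The data of CLAIM A. -/
structure Cl (P S MM Q V E F W B L R : Subgroup G) : Prop extends Cb P S MM Q V E F W B L where
  /-- `C_R(W^h) = 1` if `W^h` is not inside `MM` -/
  R_free : ∀ h ∈ P, (∃ w ∈ W, h * w * h⁻¹ ∉ MM) →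
    ∀ r ∈ R, (∀ w ∈ W, (h * w * h⁻¹) * r = r * (h * w * h⁻¹)) → r = 1
  /-- `R` contains no `P`-invariant subgroup -/
  R_int : ∀ r ∈ R, (∀ p ∈ P, p * r * p⁻¹ ∈ R) → r = 1

variable {P S MM Q V E F W B L R : Subgroup G}

/-- The case `R = Z`: `S` centralises `Z` and `C_Z(P) = 1`. -/
theorem Cb.of_center (h : Cb P S MM Q V E F W B L) (hW : W ≤ S)
    (hS : ∀ z ∈ R, ∀ s ∈ S, s * z = z * s)
    (hP : ∀ z ∈ R, (∀ p ∈ P, p * z = z * p) → z = 1) : Cl P S MM Q V E F W B L R := by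
  have key : ∀ r ∈ R, ∀ x ∈ P, x ∉ MM → x * r = r * x → r = 1 := by
    intro r hr x hx hxM hxr
    refine hP r hr ?_
    have hle : P ≤ P ⊓ Subgroup.centralizer {r} := by
      refine h.max _ ?_ inf_le_left ?_
      · refine le_inf h.S_le ?_
        intro s hs
        rw [Subgroup.mem_centralizer_singleton_iff]
        exact hS r hr s hs
      · intro hle
        exact hxM (hle (Subgroup.mem_inf.mpr
          ⟨hx, Subgroup.mem_centralizer_singleton_iff.mpr hxr⟩))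
    intro p hp
    exact Subgroup.mem_centralizer_singleton_iff.mp (Subgroup.mem_inf.mp (hle hp)).2
  refine ⟨h, ?_, ?_⟩
  · rintro g hg ⟨w, hw, hwM⟩ r hr hc
    exact key r hr _ (P.mul_mem (P.mul_mem hg (h.W_le hw)) (P.inv_mem hg)) hwM (hc w hw)
  · intro r hr hc
    obtain ⟨g, hg, w, hw, hwM⟩ := h.move
    refine key r hr _ (P.mul_mem (P.mul_mem hg (h.W_le hw)) (P.inv_mem hg)) hwM ?_
    have h1 := hS _ (hc g⁻¹ (P.inv_mem hg)) w (hW hw)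
    have h2 : g * (w * (g⁻¹ * r * g⁻¹⁻¹)) * g⁻¹ = g * ((g⁻¹ * r * g⁻¹⁻¹) * w) * g⁻¹ := by rw [h1]
    calc g * w * g⁻¹ * r = g * (w * (g⁻¹ * r * g⁻¹⁻¹)) * g⁻¹ := by group
      _ = g * ((g⁻¹ * r * g⁻¹⁻¹) * w) * g⁻¹ := h2
      _ = r * (g * w * g⁻¹) := by group

/-- CLAIM A. -/
theorem Cl.claim (h : Cl P S MM Q V E F W B L R) {LL : Subgroup G} (hL : L ≤ LL) (hV : LL ≤ V)
    (hS : ∀ g ∈ S, ∀ x ∈ LL, g * x * g⁻¹ ∈ LL)
    (hQ : ∀ u ∈ LL, ∀ c ∈ Q, c * u * c⁻¹ * u⁻¹ ∈ R) (hne : ¬ LL ≤ L) :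
    ∃ g ∈ P, (∃ w ∈ W, g⁻¹ * w * g ∉ MM) ∧ ∃ u ∈ LL, g * u * g⁻¹ ∉ E := by
  by_contra hcon
  push Not at hcon
  -- (1) `[LL^g, B] = 1`
  have h1 : ∀ g ∈ P, (∃ w ∈ W, g⁻¹ * w * g ∉ MM) → ∀ u ∈ LL, ∀ w ∈ W,
      (g⁻¹ * w * g) * u * (g⁻¹ * w * g)⁻¹ ∈ LL := by
    rintro g hg ⟨w₀, hw₀, hM⟩ u hu w hw
    have hE : g * u * g⁻¹ ∈ E := hcon g hg ⟨w₀, hw₀, hM⟩ u hu
    have hx : g * u * g⁻¹ ∈ V := h.V_norm g hg u (hV hu)
    have hB : ∀ b ∈ B, b * (g * u * g⁻¹) = (g * u * g⁻¹) * b := by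
      intro b hb
      have hF := h.EW _ hE b (h.B_W hb)
      have hc : g⁻¹ * b * g ∈ Q := by
        have := h.Q_norm g⁻¹ (P.inv_mem hg) b (h.B_Q hb)
        rwa [inv_inv] at this
      have hR := hQ u hu _ hc
      have hr1 : (g⁻¹ * b * g) * u * (g⁻¹ * b * g)⁻¹ * u⁻¹ = 1 := by
        refine h.R_free g⁻¹ (P.inv_mem hg) ⟨w₀, hw₀, by rwa [inv_inv]⟩ _ hR ?_
        intro w' hw'
        have e := h.FW _ hF w' hw'
        have e2 : g⁻¹ * (w' * (b * (g * u * g⁻¹) * b⁻¹ * (g * u * g⁻¹)⁻¹)) * g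
          = g⁻¹ * ((b * (g * u * g⁻¹) * b⁻¹ * (g * u * g⁻¹)⁻¹) * w') * g := by rw [e]
        calc g⁻¹ * w' * g⁻¹⁻¹ * ((g⁻¹ * b * g) * u * (g⁻¹ * b * g)⁻¹ * u⁻¹)
            = g⁻¹ * (w' * (b * (g * u * g⁻¹) * b⁻¹ * (g * u * g⁻¹)⁻¹)) * g := by group
          _ = g⁻¹ * ((b * (g * u * g⁻¹) * b⁻¹ * (g * u * g⁻¹)⁻¹) * w') * g := e2
          _ = (g⁻¹ * b * g) * u * (g⁻¹ * b * g)⁻¹ * u⁻¹ * (g⁻¹ * w' * g⁻¹⁻¹) := by group
      have e3 : b * (g * u * g⁻¹) * b⁻¹ * (g * u * g⁻¹)⁻¹ = 1 := by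
        calc b * (g * u * g⁻¹) * b⁻¹ * (g * u * g⁻¹)⁻¹
            = g * ((g⁻¹ * b * g) * u * (g⁻¹ * b * g)⁻¹ * u⁻¹) * g⁻¹ := by group
          _ = 1 := by rw [hr1]; group
      have e4 := mul_inv_eq_one.mp e3
      exact mul_inv_eq_iff_eq_mul.mp e4
    obtain ⟨l, hl, f, hf, hlf⟩ := h.a _ hx hB
    have e5 : w * (g * u * g⁻¹) * w⁻¹ * (g * u * g⁻¹)⁻¹ = (w * l * w⁻¹) * l⁻¹ := by
      rw [hlf]
      have := h.FW f hf w hw
      calc w * (l * f) * w⁻¹ * (l * f)⁻¹ = w * l * (f * w⁻¹ * f⁻¹) * l⁻¹ := by group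
        _ = w * l * w⁻¹ * l⁻¹ := by
          have : f * w⁻¹ * f⁻¹ = w⁻¹ := by
            calc f * w⁻¹ * f⁻¹ = w⁻¹ * (w * f) * w⁻¹ * f⁻¹ := by group
              _ = w⁻¹ * (f * w) * w⁻¹ * f⁻¹ := by rw [this]
              _ = w⁻¹ := by group
          rw [this]
    have e6 : w * (g * u * g⁻¹) * w⁻¹ * (g * u * g⁻¹)⁻¹ ∈ L := by
      rw [e5]
      exact L.mul_mem (h.L_norm w (h.W_le hw) l hl) (L.inv_mem hl)
    have e7 : (g⁻¹ * w * g) * u * (g⁻¹ * w * g)⁻¹ * u⁻¹ ∈ L := by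
      have := h.L_norm g⁻¹ (P.inv_mem hg) _ e6
      have e8 : g⁻¹ * (w * (g * u * g⁻¹) * w⁻¹ * (g * u * g⁻¹)⁻¹) * g⁻¹⁻¹
        = (g⁻¹ * w * g) * u * (g⁻¹ * w * g)⁻¹ * u⁻¹ := by group
      rwa [e8] at this
    have := LL.mul_mem (hL e7) hu
    simpa [mul_assoc] using this
  -- (2) `P` normalises `LL`
  have hPN : ∀ p ∈ P, ∀ u ∈ LL, p * u * p⁻¹ ∈ LL := by
    let N : Subgroup G :=
      { carrier := {p | p ∈ P ∧ (∀ u ∈ LL, p * u * p⁻¹ ∈ LL) ∧ ∀ u ∈ LL, p⁻¹ * u * p ∈ LL}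
        mul_mem' := by
          rintro a b ⟨ha, ha1, ha2⟩ ⟨hb, hb1, hb2⟩
          refine ⟨P.mul_mem ha hb, fun u hu => ?_, fun u hu => ?_⟩
          · have := ha1 _ (hb1 u hu)
            have e : a * (b * u * b⁻¹) * a⁻¹ = a * b * u * (a * b)⁻¹ := by group
            rwa [e] at this
          · have := hb2 _ (ha2 u hu)
            have e : b⁻¹ * (a⁻¹ * u * a) * b = (a * b)⁻¹ * u * (a * b) := by group
            rwa [e] at this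
        one_mem' := ⟨P.one_mem, fun u hu => by simpa using hu, fun u hu => by simpa using hu⟩
        inv_mem' := by
          rintro a ⟨ha, ha1, ha2⟩
          exact ⟨P.inv_mem ha, fun u hu => by simpa using ha2 u hu,
            fun u hu => by simpa using ha1 u hu⟩ }
    have hle : P ≤ N := by
      refine h.max N ?_ ?_ ?_
      · intro s hs
        refine ⟨h.S_le hs, hS s hs, fun u hu => ?_⟩
        have := hS s⁻¹ (S.inv_mem hs) u hu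
        simpa using this
      · rintro x ⟨hx, -, -⟩
        exact hx
      · intro hN
        obtain ⟨g, hg, w, hw, hwM⟩ := h.move
        refine hwM (hN ⟨P.mul_mem (P.mul_mem hg (h.W_le hw)) (P.inv_mem hg), ?_, ?_⟩)
        · intro u hu
          have := h1 g⁻¹ (P.inv_mem hg) ⟨w, hw, by simpa using hwM⟩ u hu w hw
          simpa using this
        · intro u hu
          have := h1 g⁻¹ (P.inv_mem hg) ⟨w, hw, by simpa using hwM⟩ u hu w⁻¹ (W.inv_mem hw)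
          have e : (g⁻¹⁻¹ * w⁻¹ * g⁻¹) * u * (g⁻¹⁻¹ * w⁻¹ * g⁻¹)⁻¹
            = (g * w * g⁻¹)⁻¹ * u * (g * w * g⁻¹) := by group
          rwa [e] at this
    intro p hp u hu
    exact (hle hp).2.1 u hu
  -- (3) `Q` centralises `LL`
  apply hne
  intro u hu
  refine h.b u (hV hu) ?_
  intro c hc
  have hr : c * u * c⁻¹ * u⁻¹ = 1 := by
    refine h.R_int _ (hQ u hu c hc) ?_
    intro p hp
    have := hQ (p * u * p⁻¹) (hPN p hp u hu) (p * c * p⁻¹) (h.Q_norm p hp c hc)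
    have e : (p * c * p⁻¹) * (p * u * p⁻¹) * (p * c * p⁻¹)⁻¹ * (p * u * p⁻¹)⁻¹
      = p * (c * u * c⁻¹ * u⁻¹) * p⁻¹ := by group
    rwa [e] at this
  exact mul_inv_eq_iff_eq_mul.mp (mul_inv_eq_one.mp hr)

end Cfsg.Agent.Omega.NO3S.BetaFF.ClaimA
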