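import Cfsg.Agent.Omega.NO3S.BetaFF.ActClaim
import Cfsg.Agent.Omega.NOne.Flat.QU

/-!
# GammaFF, BETA for FF lines: `Act` from `Hyp S P` (leaf NO-3S)

* `zc_le_F` : `W_F ≤ S`, `Z ≤ V` ⟹ `Z ≤ F`;
* `le_EE_of_low` : `X ≤ V`, `X ≤ O₂(C_G(Z))`, `Z ≤ F` ⟹ `X ≤ E_F`;
* `Act.of_hyp` : `Hyp S P`, `V_P ≤ V`, `P ≤ N(V)`, `Flat.Hyp V F`, `W_F ≤ S`, `W_F ≰ O₂(P)` ⟹ `Act S P V F`.
-/

set_option autoImplicit false
set_option linter.unusedSectionVars false

namespace Cfsg.Agent.Omega.NO3S.BetaFF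

open Subgroup Cfsg Cfsg.Agent.ZN Cfsg.Agent.Omega.MinPar Cfsg.Agent.Omega.FFThm Cfsg.Agent.Omega.FrameNOFF
open Cfsg.Agent.Omega.NOne
open scoped Pointwise

universe u

variable {G : Type u} [Group G] [Finite G] {S : Sylow 2 G} {P V F : Subgroup G}

/-- `Z ≤ C_V(W_F) = F` if `W_F ≤ S`. -/
theorem zc_le_F (hf : Flat.Hyp V F) (hZ : zc (S : Subgroup G) ≤ V) (hW : Flat.WW V F ≤ (S : Subgroup G)) :
    zc (S : Subgroup G) ≤ F := by
  rw [← hf.cent_VW]
  refine le_inf hZ fun z hz => mem_centralizer_iff.2 fun w hw => ?_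
  exact (ZN.mem_zc.1 hz).2.1 w (hW hw)

/-- A subgroup of `V` in `O₂(C_G(D))`, `D ≤ F`, is in `E_F`. -/
theorem le_EE_of_low (hf : Flat.Hyp V F) {X D : Subgroup G} (hX : X ≤ V) (hD : D ≤ F)
    (hlow : X ≤ o2 (centralizer (D : Set G))) : X ≤ Flat.EE V F := by
  refine le_inf hX fun x hx => ?_
  have h1 : centralizer (F : Set G) ≤ centralizer (D : Set G) := centralizer_le hD
  exact Flat.o2_inf_le_o2 h1 ⟨hlow hx, hf.V_le_X (hX hx)⟩

/-- `Act S P V F` from the hypotheses of the leaf. -/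
theorem Act.of_hyp (h : Hyp S P) (hf : Flat.Hyp V F) (hLV : zl (S : Subgroup G) P ≤ V)
    (hPV : P ≤ normalizer (V : Set G)) (hW : Flat.WW V F ≤ (S : Subgroup G)) (hm : ¬ Flat.WW V F ≤ o2 P) :
    Act S P V F := by
  have hZV : zc (S : Subgroup G) ≤ V := (MinSimple.VModule.zc_le_zl (S : Subgroup G) P).trans hLV
  have hZF := zc_le_F hf hZV hW
  have hlow : zl (S : Subgroup G) P ≤ o2 (CZ (S : Subgroup G)) :=
    zl_le_o2_of_comm h.ctx h.star h.geo.W_comm
  exact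
    { char2 := h.ctx.char2
      par := h.star
      cv := h.cen
      hyp := hf
      PV := hPV
      LE := le_EE_of_low hf hLV hZF hlow
      WS := hW
      mov := fun h1 => hm (by
        rw [← h.star.inf_centralizer S h.ctx.char2]
        exact le_inf hW h1)
      lines := fun x hx => by
        have h1 : MulAut.conj x • zl (S : Subgroup G) P ≤ WW (S : Subgroup G) P :=
          conj_zl_le_WW (centralizer_le hZF hx)
        have h2 : zl (S : Subgroup G) P ≤ WW (S : Subgroup G) P := zl_le_WW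
        exact (h2.trans h.geo.W_comm).trans (centralizer_le h1) }

end Cfsg.Agent.Omega.NO3S.BetaFF
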