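import Cfsg.Agent.Omega.NO3S.BetaFF.Main

/-!
# `P*(S)` normalises the natural line `V_P` (frame (U6) of helper781 #21519)

`HypN S P`, `M : Crd K S P V_P` (fields allowed), `B = M.B = C_S(R)`, `R = M.R`.

* `wcB` : `g ∈ N(V_P)`, `B^g ≤ S` ⟹ `B^g = B` and `g ∈ N(R)`; so `N_G(S) ≤ N_G(V_P)` ⟹ `N_G(S) ≤ N_G(R)`;
* `norm_or` : `R' ∈ P*(S)`, `R' ≤ N(V_P)` ⟹ `R' ≤ N(R)`, or `V_{R'} = V_P` and `C_{V_{R'}}(O²(R')) = 1`;
* `frB_of_norm` : `FrB K S P B R` from (T6), `P*(S) ≤ N(V_P)`, `N(S), N(B) ≤ N(V_P)` and `C_G(Z) ≤ N(R)`;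
* `frB_of_norm_card` : `|Z| = |K|`: (T6) and `P*(S) ≤ N(V_P)` are enough;
* `norm_B_of_wc` : `O₂(P)` weakly closed in `S` and (T6) ⟹ `N(B) ≤ N(V_P)`.
-/

set_option autoImplicit false
set_option linter.unusedVariables false
set_option linter.unusedSectionVars false

namespace Cfsg.Agent.Omega.BetaFF

open Subgroup Cfsg Cfsg.Agent.Omega.NO3S.Fld Cfsg.Agent.Omega.MinPar
open Cfsg.Agent.ZN (o2 zl zc)
open Cfsg.Agent.MinSimple.VModule (zc_le zc_le_zl zl_le le_o2 le_normalizer_zl le_normalizer_o2 oddGen oddGen_le)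
open Cfsg.Agent.Omega.FFThm (OffM ElemM NoOverM StmtM)
open Cfsg.Agent.Omega.FrameNOFF (CZ)
open Cfsg.Agent.Omega.FrameFF (cv)
open Cfsg.Agent.Omega.NO3S (HypN Uniq FrB)
open Cfsg.Agent.Omega.NO3S.BetaFF (FSR fsr_of)
open scoped Pointwise

universe u

variable {G : Type u} [Group G] [Finite G] {S : Sylow 2 G} {P Q : Subgroup G}

theorem mem_norm_of_conj_eq {g : G} {X : Subgroup G} (h : MulAut.conj g • X = X) :
    g ∈ normalizer (X : Set G) := by
  rw [mem_normalizer_iff]
  intro x
  have e : g⁻¹ * (g * x * g⁻¹) * g = x := by group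
  constructor
  · intro hx
    have h1 := cj_mem_cj (g := g) hx
    rwa [h] at h1
  · intro hx
    rw [← h] at hx
    have h1 := mem_cj.1 hx
    rwa [e] at h1

section crd

variable {K : Type*} [Field K] {T P V : Subgroup G} (M : Crd K T P V)

/-- `C_V(B) = R` -/
theorem crd_centB (A : Subgroup G) (hA : A ≤ M.B) (hne : ¬ A ≤ centralizer (V : Set G)) :
    V ⊓ centralizer (A : Set G) = M.R := by
  obtain ⟨a, ha, haV⟩ := SetLike.not_le_iff_exists.1 hne
  apply le_antisymm
  · rintro v ⟨hv, hvA⟩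
    exact M.fix (hA ha).1 (hA ha).2 haV hv (mem_centralizer_iff.1 hvA a ha)
  · refine le_inf M.R_le ?_
    rw [Subgroup.le_centralizer_iff]
    exact hA.trans inf_le_right

theorem crd_B_ne : ¬ M.B ≤ centralizer (V : Set G) := by
  intro h
  obtain ⟨s, hs, hsR, h1⟩ := M.exists_full 1
  exact one_ne_zero (h1.mem_centV.1 (h ⟨hs, hsR⟩)).2

theorem crd_elemB [CharP K 2] : ElemM V M.B where
  sq := fun b hb => by
    obtain ⟨c, hc⟩ := M.exists_root hb.1 hb.2
    have h1 := hc.mul hc
    rw [pow_two, h1.mem_centV]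
    refine ⟨rfl, ?_⟩
    simp [CharTwo.add_self_eq_zero]
  comm := fun a ha b hb => by
    obtain ⟨c, hc⟩ := M.exists_root ha.1 ha.2
    obtain ⟨d, hd⟩ := M.exists_root hb.1 hb.2
    have h1 := ((hc.mul hd).mul hc.inv).mul hd.inv
    rw [h1.mem_centV]
    refine ⟨rfl, ?_⟩
    simp

/-- `|V : C_V(B)| = |K| = |B : C_B(V)|` -/
theorem crd_exactB : (centralizer (M.B : Set G)).relIndex V = Nat.card K := by
  have h1 := crd_centB M M.B le_rfl (crd_B_ne M)
  rw [← inf_relIndex_left, h1]
  have h2 := NOne.Flat.card_mul_relIndex' M.R_le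
  rw [M.card_R, M.card_V] at h2
  have h3 : 0 < Nat.card K := by
    have := crd_finite M
    exact Nat.card_pos
  exact Nat.eq_of_mul_eq_mul_left h3 h2

end crd

section wc

variable {K : Type*} [Field K] [Finite K] [CharP K 2] {T P V : Subgroup G} (M : Crd K T P V)

/-- **`B` is weakly closed in `S` with respect to `N(V)`.** -/
theorem wcB {g : G} (hg : g ∈ normalizer (V : Set G)) (hgB : MulAut.conj g • M.B ≤ T) :
    MulAut.conj g • M.B = M.B ∧ g ∈ normalizer (M.R : Set G) := by
  have hgV : MulAut.conj g • V = V := NOne.Flat.conj_eq_of_norm hg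
  have hC : MulAut.conj g • centralizer (V : Set G) = centralizer (V : Set G) := by
    have h1 := NOne.Flat.conj_centralizer g V
    rw [h1]
    exact congrArg (fun X : Subgroup G => centralizer (X : Set G)) hgV
  have hE : ElemM V (MulAut.conj g • M.B) := by
    have h0 := crd_elemB M
    constructor
    · intro a ha
      have h1 := h0.sq _ (mem_cj.1 ha)
      have h2 := cj_mem_cj (g := g) h1
      rw [hC] at h2
      have e : g * (g⁻¹ * a * g) ^ 2 * g⁻¹ = a ^ 2 := by rw [pow_two, pow_two]; group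
      rwa [e] at h2
    · intro a ha b hb
      have h1 := h0.comm _ (mem_cj.1 ha) _ (mem_cj.1 hb)
      have h2 := cj_mem_cj (g := g) h1
      rw [hC] at h2
      have e : g * (g⁻¹ * a * g * (g⁻¹ * b * g) * (g⁻¹ * a * g)⁻¹ * (g⁻¹ * b * g)⁻¹) * g⁻¹ =
          a * b * a⁻¹ * b⁻¹ := by group
      rwa [e] at h2
  have h1 : (centralizer ((MulAut.conj g • M.B : Subgroup G) : Set G)).relIndex V = Nat.card K := by
    have e := Subgroup.relIndex_pointwise_smul (MulAut.conj g) (centralizer (M.B : Set G)) V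
    rw [hgV, NOne.Flat.conj_centralizer, crd_exactB] at e
    exact e
  have h2 : (centralizer (V : Set G)).relIndex (MulAut.conj g • M.B) = Nat.card K := by
    have e := Subgroup.relIndex_pointwise_smul (MulAut.conj g) (centralizer (V : Set G)) M.B
    rw [hC, M.relIndex_B] at e
    exact e
  have hoff : MulAut.conj g • M.B ≤ centralizer (M.R : Set G) :=
    M.off_le_centR hgB hE (FFThm.relIndex_le_iff.2 (by rw [h1, h2]))
  have h3 : MulAut.conj g • M.B = M.B :=
    Subgroup.eq_of_le_of_card_ge (le_inf hgB hoff) (card_cj _ _).ge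
  refine ⟨h3, ?_⟩
  have h4 := crd_centB M M.B le_rfl (crd_B_ne M)
  have h5 : MulAut.conj g • M.R = M.R := by
    have h6 : MulAut.conj g • (V ⊓ centralizer (M.B : Set G)) = V ⊓ centralizer (M.B : Set G) := by
      rw [Subgroup.smul_inf, hgV, NOne.Flat.conj_centralizer]
      exact congrArg (fun X : Subgroup G => V ⊓ centralizer (X : Set G)) h3
    have h7 : MulAut.conj g • M.R = MulAut.conj g • (V ⊓ centralizer (M.B : Set G)) :=
      congrArg (fun X : Subgroup G => MulAut.conj g • X) h4.symm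
    rw [h7, h6, h4]
  exact mem_norm_of_conj_eq h5

end wc

section main

variable {K : Type*} [Field K] [Finite K] [CharP K 2] (M : Crd K (S : Subgroup G) P (zl (S : Subgroup G) P))

/-- `N_G(S) ≤ N_G(V_P)` ⟹ `N_G(S) ≤ N_G(R)` -/
theorem ns_R (hns : normalizer ((S : Subgroup G) : Set G) ≤ normalizer (zl (S : Subgroup G) P : Set G)) :
    normalizer ((S : Subgroup G) : Set G) ≤ normalizer (M.R : Set G) := by
  intro g hg
  refine (wcB M (hns hg) ?_).2
  have h1 : MulAut.conj g • (S : Subgroup G) = S := NOne.Flat.conj_eq_of_norm hg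
  calc MulAut.conj g • M.B ≤ MulAut.conj g • (S : Subgroup G) :=
        Subgroup.pointwise_smul_le_pointwise_smul_iff.2 inf_le_left
    _ = S := h1

/-- **UNIQ over `R`** if `R' ∈ P*(S)` normalises `V_P`. -/
theorem norm_or (hFF : StmtM.{u}) (hG : IsCharacteristicTwoType G) {R' : Subgroup G}
    (hR' : IsParS (S : Subgroup G) R') (hn : R' ≤ normalizer (zl (S : Subgroup G) P : Set G)) :
    R' ≤ normalizer (M.R : Set G) ∨
      (zl (S : Subgroup G) R' = zl (S : Subgroup G) P ∧ cv (S : Subgroup G) R' = ⊥) := by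
  have hle : zl (S : Subgroup G) R' ≤ zl (S : Subgroup G) P := ZN.zl_le (zc_le_zl _ _) hn
  have hZR : zc (S : Subgroup G) ≤ M.R := fun z hz =>
    M.mem_R_of_comm (zc_le_zl _ _ hz) fun b hb _ => (ZN.mem_zc.1 hz).2.1 b hb
  by_cases hR : zl (S : Subgroup G) R' ≤ M.R
  · left
    -- `B ≤ O₂(R')`
    have h1 : M.B ≤ o2 R' := by
      rw [← hR'.inf_centralizer S hG]
      exact le_inf inf_le_left (inf_le_right.trans (centralizer_le hR))
    intro g hg
    refine (wcB M (hn hg) ?_).2
    have h2 : MulAut.conj g • o2 R' = o2 R' := NOne.Flat.conj_eq_of_norm (le_normalizer_o2 R' hg)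
    calc MulAut.conj g • M.B ≤ MulAut.conj g • o2 R' := Subgroup.pointwise_smul_le_pointwise_smul_iff.2 h1
      _ = o2 R' := h2
      _ ≤ S := hR'.isLoc.o2_le S
  · right
    obtain ⟨v, hv, hvR⟩ := SetLike.not_le_iff_exists.1 hR
    have hvL := hle hv
    have hne : ¬ M.B ≤ centralizer (zl (S : Subgroup G) R' : Set G) := by
      intro hc
      apply hvR
      have h1 := crd_centB M M.B le_rfl (crd_B_ne M)
      rw [← h1]
      exact ⟨hvL, mem_centralizer_iff.2 fun b hb => (mem_centralizer_iff.1 (hc hb) v hv).symm⟩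
    have hE := crd_elemB M
    have hoff : OffM (zl (S : Subgroup G) R') M.B :=
      { sq := fun a ha => centralizer_le hle (hE.sq a ha)
        comm := fun a ha b hb => centralizer_le hle (hE.comm a ha b hb)
        ne := hne
        le := by
          rw [FFThm.relIndex_le_iff]
          have h1 : (centralizer (M.B : Set G)).relIndex (zl (S : Subgroup G) R') ≤
              (centralizer (M.B : Set G)).relIndex (zl (S : Subgroup G) P) :=
            relIndex_le_of_le_right hle index_ne_zero_of_finite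
          rw [crd_exactB M, ← M.relIndex_B] at h1
          refine h1.trans ?_
          rw [← inf_relIndex_left M.B (centralizer (zl (S : Subgroup G) R' : Set G))]
          refine relIndex_le_of_le_left ?_ index_ne_zero_of_finite
          rintro b ⟨hb, hbc⟩
          by_contra hbL
          exact hvR (M.fix hb.1 hb.2 hbL hvL (mem_centralizer_iff.1 hbc v hv).symm) }
    have f := fsr_of hFF hG hR' (inf_le_left : M.B ≤ (S : Subgroup G)) hoff hv
      (fun z hz => M.full' hvL hvR hz) (fun a ha => M.act_mem ha hvL) hZR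
    exact ⟨Subgroup.eq_of_le_of_card_ge hle (by rw [f.cardV, M.card_V_R]), f.cv⟩

include M in
/-- **UNIQ**, no fields. -/
theorem uniq_of_norm (hFF : StmtM.{u}) (hG : IsCharacteristicTwoType G)
    (hZ : Nat.card (zc (S : Subgroup G)) = Nat.card K)
    (hpar : ∀ R, IsParS (S : Subgroup G) R → R ≤ normalizer (zl (S : Subgroup G) P : Set G)) :
    Uniq (S : Subgroup G) P := by
  have hR : M.R = zc (S : Subgroup G) := by
    refine (Subgroup.eq_of_le_of_card_ge (fun z hz => ?_) (by rw [M.card_R, hZ])).symm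
    exact M.mem_R_of_comm (zc_le_zl _ _ hz) fun b hb _ => (ZN.mem_zc.1 hz).2.1 b hb
  have key : ∀ R' : Subgroup G, IsParS (S : Subgroup G) R' →
      zl (S : Subgroup G) R' = zl (S : Subgroup G) P ∧ cv (S : Subgroup G) R' = ⊥ := by
    intro R' hR'
    rcases norm_or M hFF hG hR' (hpar R' hR') with h1 | h1
    · rw [hR] at h1
      exact absurd h1 hR'.not_zc
    · exact h1
  refine ⟨fun R' hR' => (key R' hR').1, fun R' hR' => ?_⟩
  rw [eq_bot_iff, ← (key R' hR').2]
  exact inf_le_inf (zc_le_zl _ _) (centralizer_le (oddGen_le R'))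

end main

section frame

variable {K : Type} [Field K] [Finite K] [CharP K 2] (M : Crd K (S : Subgroup G) P (zl (S : Subgroup G) P))

/-- **The frame `FrB`**, fields allowed. -/
theorem frB_of_norm (hFF : StmtM.{u}) (h : HypN S P) (hT6 : zc (o2 P) = zl (S : Subgroup G) P)
    (hpar : ∀ R, IsParS (S : Subgroup G) R → R ≤ normalizer (zl (S : Subgroup G) P : Set G))
    (hns : normalizer ((S : Subgroup G) : Set G) ≤ normalizer (zl (S : Subgroup G) P : Set G))
    (hNB : normalizer (M.B : Set G) ≤ normalizer (zl (S : Subgroup G) P : Set G))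
    (hCZ : CZ (S : Subgroup G) ≤ normalizer (M.R : Set G)) : FrB K S P M.B M.R := by
  have hG := h.ctx.char2
  refine ⟨pb' h.toHyp M (ns_R M hns) hNB (fun R' hR' => ?_) hCZ, omB_of' h.toHyp M hT6, M.card_R,
    fun R' hR' => (norm_or M hFF hG hR' (hpar R' hR')).imp id fun e => e.1⟩
  refine (norm_or M hFF hG hR' (hpar R' hR')).imp id fun e => ?_
  rw [eq_bot_iff, ← e.2]
  exact inf_le_inf (zc_le_zl _ _) (centralizer_le (oddGen_le R'))

/-- **The frame `FrB`**, no fields. -/
theorem frB_of_norm_card (hFF : StmtM.{u}) (h : HypN S P) (hZ : Nat.card (zc (S : Subgroup G)) = Nat.card K)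
    (hT6 : zc (o2 P) = zl (S : Subgroup G) P)
    (hpar : ∀ R, IsParS (S : Subgroup G) R → R ≤ normalizer (zl (S : Subgroup G) P : Set G)) : FrB K S P M.B M.R :=
  frB_of_uniq h M hZ (uniq_of_norm M hFF h.ctx.char2 hZ hpar) hT6

/-- `O₂(P)` weakly closed and (T6) ⟹ `N(B) ≤ N(V_P)`. -/
theorem norm_B_of_wc (hG : IsCharacteristicTwoType G) (hP : IsParS (S : Subgroup G) P)
    (hT6 : zc (o2 P) = zl (S : Subgroup G) P)
    (hwc : ∀ g : G, MulAut.conj g • o2 P ≤ (S : Subgroup G) → MulAut.conj g • o2 P = o2 P) :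
    normalizer (M.B : Set G) ≤ normalizer (zl (S : Subgroup G) P : Set G) := by
  intro g hg
  have h1 : o2 P ≤ M.B := by
    rw [← hP.inf_centralizer S hG]
    exact inf_le_inf_left _ (centralizer_le M.R_le)
  have h2 : MulAut.conj g • M.B = M.B := NOne.Flat.conj_eq_of_norm hg
  have h3 : MulAut.conj g • o2 P ≤ (S : Subgroup G) := by
    have h4 : MulAut.conj g • o2 P ≤ MulAut.conj g • M.B := Subgroup.pointwise_smul_le_pointwise_smul_iff.2 h1
    rw [h2] at h4
    exact h4.trans inf_le_left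
  have h5 := hwc g h3
  rw [← hT6]
  refine NO3S.Level.normalizer_le_zc (o2 P) ?_
  exact mem_norm_of_conj_eq h5

end frame

end Cfsg.Agent.Omega.BetaFF
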