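import Cfsg.Agent.Omega.NO3S.BetaFF.Sup
import Cfsg.Agent.Omega.NO3S.Fld.UniqB

/-!
# BETA-FF (#19171 (4)): full support, the consequences

`P ∈ P*(S)`, `V = V_P`, `A ≤ S` an offender on `V`, `v ∈ V`, `R = {[a, v] : a ∈ A} ≥ Ω₁(Z(S))`.

* `FSR S P A R v`, `fsr_of` : `C_V(O²(P)) = 1`, `C_V(A) = R`, `C_A(v) = C_A(V)`, `|V| = |R|²`, `|R| = |A : C_A(V)|`,
  `|C_S(R) : O₂(P)| ≤ |R|`;
* `fs_nat` : if moreover `C_V(a) = C_V(A)` for all `a ∈ A - C(V)` and `|R| > 2`, then `V` is one natural `SL₂(F)`-module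
  with line `R` (`Crd F S P V`, `M.R = R`).
-/

set_option autoImplicit false
set_option linter.unusedSectionVars false
set_option linter.unusedVariables false

namespace Cfsg.Agent.Omega.NO3S.BetaFF

open Subgroup Cfsg Cfsg.Agent.ZN Cfsg.Agent.ZN.ChoiceBase Cfsg.Agent.Omega.MinPar
open Cfsg.Agent.ZN.ChoiceSit (Syl o2_le_syl)
open Cfsg.Agent.Omega.SQ1
open Cfsg.Agent.MinSimple.VModule (zc_le zc_le_zl zl_le le_o2 le_normalizer_zl le_normalizer_o2 oddGen oddGen_le)
open Cfsg.Agent.Omega.SQ1.FFOne Cfsg.Agent.Omega.SQ1.FFSym Cfsg.Agent.Lib.SL2Mat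
open Cfsg.Agent.Omega.FFThm (NatK SymK NatKM SymKM OffM NoOverM ActsSym ActsSL StmtM)
open Cfsg.Agent.Omega.FrameFF (cv)
open Cfsg.Agent.Omega.NatPair (ap ap_zero' ap_one' ap_one ap_mul ap_add ap_smul ext2 ap_inv_ap ap_inj)
open Cfsg.Agent.Omega.NO3S.OneLine (NatC natC_of card_of_hom syl_of minH card_mul_relIndex cyc_T' disj' sy_of
  exists_fixed)
open Cfsg.Agent.Omega.NO3S.Fld

universe u

variable {G : Type u} [Group G] [Finite G] {S : Sylow 2 G} {P : Subgroup G}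

/-- The conclusions of LEMMA FS for `R = [v, A] ≥ Ω₁(Z(S))`. -/
structure FSR (S P A R : Subgroup G) (v : G) : Prop where
  cv : cv S P = ⊥
  RV : R ≤ zl S P
  AR : A ≤ centralizer (R : Set G)
  cR : zl S P ⊓ centralizer (A : Set G) = R
  ker : ∀ a ∈ A, a * v = v * a → a ∈ centralizer (zl S P : Set G)
  cardR : Nat.card R = (centralizer (zl S P : Set G)).relIndex A
  cardV : Nat.card (zl S P) = Nat.card R * Nat.card R
  cen : (o2 P).relIndex (S ⊓ centralizer (R : Set G)) ≤ Nat.card R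
  no : NoOverM (zl S P) P

/-- `Ω₁(Z(S))` is not contained in `C_V(O²(P))`. -/
theorem not_zc_le_cv (hP : IsParS (S : Subgroup G) P) : ¬ zc (S : Subgroup G) ≤ cv (S : Subgroup G) P := by
  intro h
  apply hP.not_zc
  have h1 : oddGen P ⊔ (S : Subgroup G) = P :=
    NoFF.LinesPlug.oddGen_sup hP.le (MinSimple.Basic.not_dvd_relIndex S hP.le)
  refine le_trans ?_ (centralizer_le_normalizer _)
  rw [← h1]
  refine sup_le ?_ (FrameNOFF.le_CZ S)
  rw [Subgroup.le_centralizer_iff]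
  exact h.trans inf_le_right

theorem fsr_of (hFF : StmtM.{u}) (hG : IsCharacteristicTwoType G) (hP : IsParS (S : Subgroup G) P)
    {A R : Subgroup G} (hA : A ≤ (S : Subgroup G)) (hoff : OffM (zl (S : Subgroup G) P) A) {v : G}
    (hv : v ∈ zl (S : Subgroup G) P) (hR : ∀ z ∈ R, ∃ a ∈ A, a * v * a⁻¹ * v⁻¹ = z)
    (hR' : ∀ a ∈ A, a * v * a⁻¹ * v⁻¹ ∈ R) (hZ : zc (S : Subgroup G) ≤ R) :
    FSR (S : Subgroup G) P A R v := by
  obtain ⟨z, hz, hzD⟩ := SetLike.not_le_iff_exists.1 (not_zc_le_cv hP)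
  obtain ⟨a₀, ha₀, haz⟩ := hR z (hZ hz)
  obtain ⟨V1, f⟩ := exists_fs hFF hG hP hA hoff hv hz hzD ha₀ haz
  have hVS : zl (S : Subgroup G) P ≤ (S : Subgroup G) := (zl_le_o2' hG hP).trans (NO3S.OneLine.o2_le S hP.toIsPar)
  have hVe := zl_elem' hG hP
  have hcvn : P ≤ normalizer (cv (S : Subgroup G) P : Set G) := by
    intro g hg
    apply mem_normalizer_of_cj_le
    intro y hy
    rw [mem_cj] at hy
    have h1 := SQ1.FFOf.cv_norm g hg _ hy
    have e : g * (g⁻¹ * y * g) * g⁻¹ = y := by group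
    rwa [e] at h1
  -- `D = 1`
  have hcv : cv (S : Subgroup G) P = ⊥ := by
    by_contra hne
    obtain ⟨y, hy, hy1, hyS⟩ := exists_fixed (M := (⊥ : Subgroup G)) (N := cv (S : Subgroup G) P) S.isPGroup'
      (SQ1.FFOf.cv_le.trans hVS) (hP.le.trans hcvn) fun h1 => hne (le_bot_iff.1 h1)
    have hyz : y ∈ zc (S : Subgroup G) := by
      refine mem_zc.2 ⟨hVS (SQ1.FFOf.cv_le hy), Bau.elem_sq hVe y (SQ1.FFOf.cv_le hy), fun s hs => ?_⟩
      have h2 := hyS s hs
      rw [mem_bot, mul_inv_eq_one] at h2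
      calc s * y = s * y * s⁻¹ * s := by group
        _ = y * s := by rw [h2]
    obtain ⟨a, ha, hay⟩ := hR y (hZ hyz)
    have h3 := f.ker a ha (by rw [hay]; exact hy)
    apply hy1
    rw [mem_bot, ← hay, ← mem_centralizer_iff.1 h3 v hv, mul_inv_cancel_right, mul_inv_cancel]
  -- `V₁ = R`
  have hRV1 : R ≤ V1 := by
    intro y hy
    obtain ⟨a, ha, rfl⟩ := hR y hy
    exact f.mem a ha
  have hV1R : V1 ≤ R := by
    intro w hw
    obtain ⟨a, ha, h1⟩ := f.dec w hw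
    rw [hcv, mem_bot] at h1
    rw [eq_inv_of_mul_eq_one_left h1]
    exact inv_mem (hR' a ha)
  obtain rfl : V1 = R := le_antisymm hV1R hRV1
  have hcR : zl (S : Subgroup G) P ⊓ centralizer (A : Set G) = V1 :=
    le_antisymm f.cV (le_inf f.le (Subgroup.le_centralizer_iff.1 f.cA))
  have hker : ∀ a ∈ A, a * v = v * a → a ∈ centralizer (zl (S : Subgroup G) P : Set G) := by
    intro a ha h1
    refine f.ker a ha ?_
    rw [h1, mul_inv_cancel_right, mul_inv_cancel]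
    exact one_mem _
  -- `a ↦ [a, v]` is a homomorphism
  have hc : Nat.card A = Nat.card ↥(A ⊓ centralizer (zl (S : Subgroup G) P : Set G)) * Nat.card V1 := by
    have hcomm : ∀ x ∈ V1, ∀ y ∈ V1, x * y = y * x := fun x hx y hy => Bau.elem_comm hVe x (f.le hx) y (f.le hy)
    let _ : CommGroup V1 := { (inferInstance : Group V1) with mul_comm := fun a b => Subtype.ext (hcomm a a.2 b b.2) }
    let φ : A →* V1 := MonoidHom.mk' (fun a => ⟨(a : G) * v * (a : G)⁻¹ * v⁻¹, f.mem a a.2⟩) (by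
      intro a b
      apply Subtype.ext
      show (a : G) * b * v * ((a : G) * b)⁻¹ * v⁻¹ = (a : G) * v * (a : G)⁻¹ * v⁻¹ * ((b : G) * v * (b : G)⁻¹ * v⁻¹)
      rw [comm_mul (mem_centralizer_iff.1 (f.cA a.2) _ (f.mem b b.2)).symm]
      exact hcomm _ (f.mem b b.2) _ (f.mem a a.2))
    have hsurj : Function.Surjective φ := by
      rintro ⟨y, hy⟩
      obtain ⟨a, ha, h1⟩ := hR y hy
      exact ⟨⟨a, ha⟩, Subtype.ext h1⟩
    have h1 : Nat.card φ.ker * Nat.card φ.range = Nat.card A := by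
      rw [← Subgroup.index_ker, Subgroup.card_mul_index]
    have h2 : Nat.card φ.range = Nat.card V1 := by
      rw [MonoidHom.range_eq_top.2 hsurj, Subgroup.card_top]
    have h3 : Nat.card φ.ker = Nat.card ↥(A ⊓ centralizer (zl (S : Subgroup G) P : Set G)) := by
      have h4 : ∀ a : A, a ∈ φ.ker ↔ (a : G) ∈ centralizer (zl (S : Subgroup G) P : Set G) := by
        intro a
        rw [MonoidHom.mem_ker]
        constructor
        · intro h5
          have h6 : (a : G) * v * (a : G)⁻¹ * v⁻¹ = 1 := congrArg Subtype.val h5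
          exact f.ker a a.2 (by rw [h6]; exact one_mem _)
        · intro h5
          apply Subtype.ext
          show (a : G) * v * (a : G)⁻¹ * v⁻¹ = 1
          rw [← mem_centralizer_iff.1 h5 v hv, mul_inv_cancel_right, mul_inv_cancel]
      exact Nat.card_congr ⟨fun a => ⟨a.1.1, a.1.2, (h4 a.1).1 a.2⟩, fun a => ⟨⟨a.1, a.2.1⟩, (h4 _).2 a.2.2⟩,
        fun _ => rfl, fun _ => rfl⟩
    rw [← h1, h2, h3]
  have hp : 0 < Nat.card ↥(A ⊓ centralizer (zl (S : Subgroup G) P : Set G)) := Nat.card_pos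
  have hp1 : 0 < Nat.card V1 := Nat.card_pos
  refine ⟨hcv, f.le, f.cA, hcR, hker, ?_, ?_, ?_, f.no⟩
  · have h1 := card_mul_relIndex (inf_le_left : A ⊓ centralizer (zl (S : Subgroup G) P : Set G) ≤ A)
    rw [inf_relIndex_left, hc] at h1
    exact (Nat.eq_of_mul_eq_mul_left hp h1).symm
  · have h1 := hoff.le
    have h2 := f.no A (hA.trans hP.le) hoff.toElemM
    rw [hcR] at h1 h2
    have h3 := le_antisymm h1 h2
    rw [hc] at h3
    have h4 : Nat.card ↥(A ⊓ centralizer (zl (S : Subgroup G) P : Set G)) * Nat.card (zl (S : Subgroup G) P) =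
        Nat.card ↥(A ⊓ centralizer (zl (S : Subgroup G) P : Set G)) * (Nat.card V1 * Nat.card V1) := by
      rw [mul_comm, h3]; ring
    exact Nat.eq_of_mul_eq_mul_left hp h4
  · have h1 := f.cen
    rwa [hcv, Subgroup.card_bot, mul_one] at h1

end Cfsg.Agent.Omega.NO3S.BetaFF
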