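import Cfsg.Agent.Omega.NO3S.BetaFF.Three
import Cfsg.Agent.Omega.NO3S.BetaFF.SupR
import Cfsg.Agent.Omega.NO3S.BetaFF.Act

/-!
# THEOREM BETA-FF(1) (helper284 #19171), section (4): preparations and (4a)

* `crd_ti`, `crd_mv`, `crd_cv` : the points of a natural line; `C_V(O²(P)) = 1`;
* `Fr.surjW` : `[v, W] = R` for `v ∈ L - R`;
* `Fr.zl_le_E` : a line `V_{P₂} ≤ V ∩ U` lies in `E`; `Fr.offM_of` : `W` offends on it if it moves it;
* `Fr.act` : the frame gives `Act S P V F` (helper633), so `C_V(O₂(P)) = V_P` (`Fr.cent_QL`);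
* `Fr.four_a` : `V_{P₂} ≤ V ∩ U` and `V_{P₂} ∩ V_P ≰ R` ⟹ `V_{P₂} = V_P`.
-/

set_option autoImplicit false
set_option linter.unusedSectionVars false
set_option linter.unusedVariables false

namespace Cfsg.Agent.Omega.BetaFF

open Subgroup Cfsg Cfsg.Agent.Omega.NOne.Flat Cfsg.Agent.Omega.NO3S.Fld Cfsg.Agent.Omega.MinPar
open Cfsg.Agent.Omega.NOne.NearFF (c c_def)
open Cfsg.Agent.ZN (o2 zl zc)
open Cfsg.Agent.MinSimple.VModule (zc_le zc_le_zl zl_le le_o2 le_normalizer_zl le_normalizer_o2 oddGen oddGen_le)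
open Cfsg.Agent.Omega.NatPair (ap ap_zero' ap_one' ext2)
open Cfsg.Agent.Omega.FFThm (OffM NoOverM StmtM)
open Cfsg.Agent.Omega.FrameFF (cv)
open Cfsg.Agent.Omega.NO3S.BetaFF (FSR fsr_of not_zc_le_cv Act)
open Cfsg.Agent.Lib.SL2Mat
open scoped Pointwise

universe u

/-! ### The points of a natural line -/

section crd

variable {K : Type*} [Field K] {G : Type u} [Group G] [Finite G] {S : Subgroup G} {P V : Subgroup G}

theorem crd_card_pt (M : Crd K S P V) (p : G) : Nat.card ↥(MulAut.conj p • M.R) = Nat.card K := by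
  rw [card_cj, M.card_R]

/-- Two different points are disjoint. -/
theorem crd_ti (M : Crd K S P V) (hPV : P ≤ normalizer (V : Set G)) {p : G} (hp : p ∈ P)
    (hne : MulAut.conj p • M.R ≠ M.R) : M.R ⊓ MulAut.conj p • M.R = ⊥ := by
  have cjL : MulAut.conj p • V = V := NOne.Flat.conj_eq_of_norm (hPV hp)
  rw [eq_bot_iff]
  rintro z ⟨hzR, hz⟩
  rw [mem_bot]
  by_contra hz1
  apply hne
  -- a root element `t`
  obtain ⟨t, htS, htR, ht⟩ := M.exists_full 1
  have htL : t ∉ centralizer (V : Set G) := fun hc => one_ne_zero (ht.mem_centV.1 hc).2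
  obtain ⟨B, hB⟩ := M.norm p hp t (up 1) (fun x => by
    rw [ht x]
    congr 1
    apply ext2
    · rw [ap_zero', up_00, up_01]; simp
    · rw [ap_one', up_10, up_11]; simp)
  obtain ⟨a, rfl⟩ := hzR
  have ha : a ≠ 0 := by
    rintro rfl
    apply hz1
    rw [← M.e_zero]
    congr 1
    apply ext2 <;> simp
  -- `z` commutes with `t^p`
  have hzt : p * t * p⁻¹ * M.e ![a, 0] * (p * t * p⁻¹)⁻¹ = M.e ![a, 0] := by
    have h1 := mem_centralizer_iff.1 htR _ (mem_cj.1 hz)
    have h2 := congrArg (fun s => p * s * p⁻¹) h1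
    have h3 : M.e ![a, 0] * (p * t * p⁻¹) = p * t * p⁻¹ * M.e ![a, 0] := by
      simpa [mul_assoc] using h2
    rw [← h3, mul_inv_cancel_right]
  have h4 := M.e_inj ((hB _).symm.trans hzt)
  have h5 := congrFun h4 0
  have h6 := congrFun h4 1
  rw [ap_zero'] at h5
  rw [ap_one'] at h6
  simp only [Matrix.cons_val_zero, Matrix.cons_val_one, mul_zero, add_zero] at h5 h6
  have hB0 : ent B 0 0 = 1 := by
    have : ent B 0 0 * a = 1 * a := by rw [h5, one_mul]
    exact mul_right_cancel₀ ha this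
  have hB1 : ent B 1 0 = 0 := (mul_eq_zero.1 h6).resolve_right ha
  -- so `t^p` centralises `R`
  have hle : M.R ≤ MulAut.conj p • M.R := by
    rintro _ ⟨b, rfl⟩
    have h7 : p * t * p⁻¹ * M.e ![b, 0] * (p * t * p⁻¹)⁻¹ = M.e ![b, 0] := by
      rw [hB]
      congr 1
      apply ext2
      · rw [ap_zero', hB0]; simp
      · rw [ap_one', hB1]; simp
    rw [mem_cj]
    refine M.fix htS htR htL ?_ ?_
    · rw [← mem_cj, cjL]
      exact M.e_mem _
    · rw [mul_inv_eq_iff_eq_mul] at h7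
      have h2 := congrArg (fun s => p⁻¹ * s * p) h7
      simpa [mul_assoc] using h2
  symm
  refine Subgroup.eq_of_le_of_card_ge hle ?_
  rw [crd_card_pt, M.card_R]

theorem crd_finite (M : Crd K S P V) : Finite K := by
  refine Finite.of_injective (fun a : K => M.e ![a, 0]) fun a b hab => ?_
  have := congrFun (M.e_inj hab) 0
  simpa using this

theorem crd_one_lt (M : Crd K S P V) : 1 < Nat.card K := by
  have := crd_finite M
  exact Finite.one_lt_card

/-- `s ∈ C_S(R)` which moves `V` moves every point `≠ R`. -/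
theorem crd_mv (M : Crd K S P V) (hPV : P ≤ normalizer (V : Set G)) {p s : G} (hp : p ∈ P)
    (hne : MulAut.conj p • M.R ≠ M.R) (hs : s ∈ S) (hsR : s ∈ centralizer (M.R : Set G))
    (hsV : s ∉ centralizer (V : Set G)) : MulAut.conj (s * p) • M.R ≠ MulAut.conj p • M.R := by
  intro hcon
  have cjV : MulAut.conj p • V = V := NOne.Flat.conj_eq_of_norm (hPV hp)
  have hle : MulAut.conj p • M.R ≤ V := by
    have h0 : MulAut.conj p • M.R ≤ MulAut.conj p • V :=
      Subgroup.pointwise_smul_le_pointwise_smul_iff.2 M.R_le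
    rwa [cjV] at h0
  have h1 : ∀ y ∈ MulAut.conj p • M.R, y = 1 := by
    intro y hy
    have h2 : s * y * s⁻¹ ∈ MulAut.conj p • M.R := by
      rw [← hcon, map_mul, mul_smul]
      exact cj_mem_cj hy
    have h3 : s * y * s⁻¹ * y⁻¹ ∈ M.R ⊓ MulAut.conj p • M.R :=
      ⟨M.comm_R hs hsR (hle hy), Subgroup.mul_mem _ h2 (Subgroup.inv_mem _ hy)⟩
    rw [crd_ti M hPV hp hne, mem_bot, mul_inv_eq_one, mul_inv_eq_iff_eq_mul] at h3
    have h4 : y ∈ M.R ⊓ MulAut.conj p • M.R := ⟨M.fix hs hsR hsV (hle hy) h3, hy⟩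
    rwa [crd_ti M hPV hp hne] at h4
  have h2 := crd_card_pt M p
  have h3 : Nat.card ↥(MulAut.conj p • M.R) = 1 := by
    rw [Subgroup.card_eq_one, eq_bot_iff]
    intro y hy
    exact h1 y hy
  have h4 := crd_one_lt M
  omega

/-- Some element of `P` moves `R`. -/
theorem crd_exists_mv (M : Crd K S P V) : ∃ p ∈ P, MulAut.conj p • M.R ≠ M.R := by
  obtain ⟨p, hp, h1⟩ := M.lift (mk 0 1 (-1) 0 (by ring))
  refine ⟨p, hp, fun hcon => ?_⟩
  have h2 : p * M.e ![1, 0] * p⁻¹ ∈ MulAut.conj p • M.R := cj_mem_cj (M.e_mem_R.2 (by simp))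
  rw [hcon, h1, M.e_mem_R, ap_one', mk_10, mk_11] at h2
  simp at h2

end crd

/-- `C_V(O²(P)) = 1` for a natural line. -/
theorem crd_cv {K : Type*} [Field K] {G : Type u} [Group G] [Finite G] {S : Sylow 2 G} {P : Subgroup G}
    (hP : IsParS (S : Subgroup G) P) (M : Crd K (S : Subgroup G) P (zl (S : Subgroup G) P)) :
    cv (S : Subgroup G) P = ⊥ := by
  by_contra hne
  obtain ⟨y, hy⟩ := Subgroup.ne_bot_iff_exists_ne_one.1 hne
  have hn : P ≤ normalizer (cv (S : Subgroup G) P : Set G) := by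
    intro g hg
    rw [mem_normalizer_iff]
    intro x
    constructor
    · intro hx
      exact SQ1.FFOf.cv_norm g hg _ hx
    · intro hx
      have h1 := SQ1.FFOf.cv_norm g⁻¹ (inv_mem hg) _ hx
      have e : g⁻¹ * (g * x * g⁻¹) * g⁻¹⁻¹ = x := by group
      rwa [e] at h1
  have h1 := M.irr hn y.2 (SQ1.FFOf.cv_le y.2) (fun h => hy (Subtype.ext h))
  exact not_zc_le_cv hP ((zc_le_zl _ _).trans h1)

namespace Fr

variable {K : Type*} [Field K] {G : Type u} [Group G] [Finite G] {S : Sylow 2 G} {P P₂ V F L U : Subgroup G}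

/-- `[v, W] = R` for `v ∈ L - R`. -/
theorem surjW (h : Fr K S P V F L U) {v z : G} (hv : v ∈ L) (hvR : v ∉ h.M.R) (hz : z ∈ h.M.R) :
    ∃ w ∈ WW V F, w * v * w⁻¹ * v⁻¹ = z := by
  obtain ⟨x, rfl⟩ := (h.M.mem_iff v).1 hv
  rw [h.M.e_mem_R] at hvR
  obtain ⟨b, rfl⟩ := hz
  obtain ⟨w, hw, ha⟩ := h.exists_act (b / x 1)
  refine ⟨w, hw, ?_⟩
  rw [ha x, ← h.M.e_sub]
  congr 1
  apply ext2
  · simp only [Pi.sub_apply, Matrix.cons_val_zero, RingEquiv.refl_apply]
    rw [div_mul_cancel₀ _ hvR]; ring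
  · simp

theorem commW (h : Fr K S P V F L U) {v w : G} (hv : v ∈ L) (hw : w ∈ WW V F) : w * v * w⁻¹ * v⁻¹ ∈ h.M.R :=
  h.M.comm_R (h.WS hw) (h.WR hw) hv

/-- `C_B(v) = Q` for `v ∈ L - R`, `B = C_S(R)`. -/
theorem centB (h : Fr K S P V F L U) {v b : G} (hv : v ∈ L) (hvR : v ∉ h.M.R) (hb : b ∈ (S : Subgroup G))
    (hbR : b ∈ centralizer (h.M.R : Set G)) (hbv : b * v = v * b) : b ∈ h.Q := by
  refine ⟨hb, ?_⟩
  by_contra hbL
  exact hvR (h.M.fix hb hbR hbL hv hbv)

theorem zl_le_E (h : Fr K S P V F L U) (hV : zl (S : Subgroup G) P₂ ≤ V) (hU : zl (S : Subgroup G) P₂ ≤ U) :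
    zl (S : Subgroup G) P₂ ≤ EE V F := (le_inf hV hU).trans h.VU_le_E

/-- `W` offends on every line in `E` which it moves. -/
theorem offM_of (h : Fr K S P V F L U) {X : Subgroup G} (hX : X ≤ EE V F)
    (hm : ¬ WW V F ≤ centralizer (X : Set G)) : OffM X (WW V F) where
  sq := fun a ha => centralizer_le (hX.trans inf_le_left) (h.hyp.elemM_W.sq a ha)
  comm := fun a ha b hb => centralizer_le (hX.trans inf_le_left) (h.hyp.elemM_W.comm a ha b hb)
  ne := hm
  le := FFThm.relIndex_le_iff.2 (h.hyp.off_of_le_all hX)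

/-- The data of helper633. -/
theorem act (hG : IsCharacteristicTwoType G) (hP : IsParS (S : Subgroup G) P)
    (h : Fr K S P V F (zl (S : Subgroup G) P) U) : Act S P V F where
  char2 := hG
  par := hP
  cv := crd_cv hP h.M
  hyp := h.hyp
  PV := h.PV
  LE := h.L_le_E
  WS := h.WS
  mov := h.mv
  lines := fun x hx => (h.LU.trans h.Ucomm).trans (centralizer_le (h.conjL_le_U hx))

/-- **(1)** `C_V(Q) = L` -/
theorem cent_QL (hFF : StmtM.{u}) (hG : IsCharacteristicTwoType G) (hP : IsParS (S : Subgroup G) P)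
    (h : Fr K S P V F (zl (S : Subgroup G) P) U) :
    V ⊓ centralizer (h.Q : Set G) ≤ zl (S : Subgroup G) P := by
  have h1 := (h.act hG hP).cent_VQ hFF
  have h2 : (h.Q : Subgroup G) = o2 P := hP.inf_centralizer S hG
  rw [h2]
  exact h1.le

theorem Q_eq (hG : IsCharacteristicTwoType G) (hP : IsParS (S : Subgroup G) P)
    (h : Fr K S P V F (zl (S : Subgroup G) P) U) : h.Q = o2 P := hP.inf_centralizer S hG

theorem zc_le_R (h : Fr K S P V F (zl (S : Subgroup G) P) U) : zc (S : Subgroup G) ≤ h.M.R := by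
  intro z hz
  refine h.M.mem_R_of_comm (zc_le_zl _ _ hz) fun b hb _ => (ZN.mem_zc.1 hz).2.1 b hb

/-- **(4a)** -/
theorem four_a (hFF : StmtM.{u}) (hG : IsCharacteristicTwoType G) (hP : IsParS (S : Subgroup G) P)
    (h : Fr K S P V F (zl (S : Subgroup G) P) U) (h₂ : IsParS (S : Subgroup G) P₂)
    (hV : zl (S : Subgroup G) P₂ ≤ V) (hU : zl (S : Subgroup G) P₂ ≤ U) {v : G}
    (hv : v ∈ zl (S : Subgroup G) P₂) (hvL : v ∈ zl (S : Subgroup G) P) (hvR : v ∉ h.M.R) :
    zl (S : Subgroup G) P₂ = zl (S : Subgroup G) P := by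
  have hE := h.zl_le_E hV hU
  have hm : ¬ WW V F ≤ centralizer (zl (S : Subgroup G) P₂ : Set G) := by
    intro hc
    have h1 : h.M.R = ⊥ := by
      rw [eq_bot_iff]
      intro z hz
      obtain ⟨w, hw, rfl⟩ := h.surjW hvL hvR hz
      rw [mem_bot, ← mem_centralizer_iff.1 (hc hw) v hv, mul_inv_cancel_right, mul_inv_cancel]
    have h2 := h.M.card_R
    rw [h1, Subgroup.card_bot] at h2
    have := h.one_lt_card
    omega
  have hoff := h.offM_of hE hm
  have f := fsr_of hFF hG h₂ h.WS hoff hv (fun z hz => h.surjW hvL hvR hz) (fun a ha => h.commW hvL ha) h.zc_le_R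
  have hQ2 : o2 P₂ ≤ (S : Subgroup G) ⊓ centralizer (zl (S : Subgroup G) P₂ : Set G) :=
    (h₂.inf_centralizer S hG).ge
  -- `O₂(P₂) ≤ O₂(P) ≤ B`
  have h1 : o2 P₂ ≤ h.Q := by
    intro b hb
    have h3 := hQ2 hb
    exact h.centB hvL hvR h3.1 (centralizer_le f.RV h3.2) (mem_centralizer_iff.1 h3.2 v hv).symm
  have h2 : h.Q ≤ (S : Subgroup G) ⊓ centralizer (h.M.R : Set G) :=
    inf_le_inf_left _ (centralizer_le h.M.R_le)
  have h3 : (h.Q : Subgroup G).relIndex ((S : Subgroup G) ⊓ centralizer (h.M.R : Set G)) = Nat.card h.M.R := by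
    have h4 := h.M.relIndex_B
    rw [← h.M.card_R] at h4
    rw [← h4, ← inf_relIndex_left]
    conv_rhs => rw [← inf_relIndex_left]
    congr 1
    apply le_antisymm
    · exact le_inf inf_le_left (inf_le_right.trans inf_le_right)
    · refine le_inf inf_le_left (le_inf (inf_le_left.trans inf_le_left) inf_le_right)
  have h5 := relIndex_mul_relIndex (o2 P₂) h.Q _ h1 h2
  have h6 := f.cen
  rw [← h5, h3] at h6
  have h7 : 0 < Nat.card h.M.R := Nat.card_pos
  have h8 : (o2 P₂).relIndex h.Q ≤ 1 := by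
    by_contra hcon
    push Not at hcon
    nlinarith
  have h9 : (o2 P₂).relIndex h.Q ≠ 0 := index_ne_zero_of_finite
  have h10 : h.Q ≤ o2 P₂ := relIndex_eq_one.1 (by omega)
  have h11 : zl (S : Subgroup G) P₂ ≤ zl (S : Subgroup G) P := by
    refine (le_inf hV ?_).trans (h.cent_QL hFF hG hP)
    rw [Subgroup.le_centralizer_iff]
    exact h10.trans (hQ2.trans inf_le_right)
  refine Subgroup.eq_of_le_of_card_ge h11 ?_
  rw [f.cardV, h.M.card_V_R]

end Fr

end Cfsg.Agent.Omega.BetaFF
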