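import Cfsg.Agent.Omega.NO3S.BetaFF.Act
import Cfsg.Agent.Omega.NO3S.BetaFF.ClaimA

/-!
# GammaFF, BETA for FF lines: CLAIM A for all FF types (helper284 #19509 (1), helper569 #19664)

* `Act.exists_cb` : the data `ClaimA.Cb` of CLAIM A, `MM` the maximal subgroup of `P` over `S`;
* `Act.claimA` : `L ≤ LL ≤ V`, `S` normalises `LL`, `[LL, O₂(P)] ≤ Z`, `LL ≰ L` ⟹ some `LL^g ≰ E`, `g ∈ P`.
-/

set_option autoImplicit false
set_option linter.unusedSectionVars false

namespace Cfsg.Agent.Omega.NO3S.BetaFF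

open Subgroup Cfsg Cfsg.Agent.ZN Cfsg.Agent.Omega.MinPar Cfsg.Agent.Omega.FFThm
open Cfsg.Agent.Omega.NOne
open Cfsg.Agent.Omega.NOne.NearFF (c c_def)
open Cfsg.Agent.Omega.FrameFF (cv)
open Cfsg.Agent.MinSimple.VModule (oddGen oddGen_le)
open scoped Pointwise

universe u

variable {G : Type u} [Group G] [Finite G]

namespace Act

variable {S : Sylow 2 G} {P V F : Subgroup G} (h : Act S P V F)
include h

/-- Some conjugate of `W` is not contained in the maximal subgroup `MM` of `P` over `S`. -/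
theorem exists_move {MM : Subgroup G} (hMP : MM < P)
    (hmax : ∀ K : Subgroup G, (S : Subgroup G) ≤ K → K < P → K ≤ MM) : ∃ g ∈ P, ∃ w ∈ Flat.WW V F, g * w * g⁻¹ ∉ MM := by
  by_contra hcon
  push Not at hcon
  let N : Subgroup G := closure {x | ∃ g ∈ P, ∃ w ∈ Flat.WW V F, x = g * w * g⁻¹}
  have hNM : N ≤ MM := by
    rw [closure_le]
    rintro x ⟨g, hg, w, hw, rfl⟩
    exact hcon g hg w hw
  have hNn : P ≤ normalizer (N : Set G) := by
    have key : ∀ g ∈ P, ∀ x ∈ N, g * x * g⁻¹ ∈ N := by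
      intro g hg x hx
      induction hx using closure_induction with
      | mem y hy =>
        obtain ⟨k, hk, w, hw, rfl⟩ := hy
        exact subset_closure ⟨g * k, mul_mem hg hk, w, hw, by group⟩
      | one => rw [mul_one, mul_inv_cancel]; exact one_mem _
      | mul y z _ _ hy hz =>
        have e : g * (y * z) * g⁻¹ = (g * y * g⁻¹) * (g * z * g⁻¹) := by group
        rw [e]; exact mul_mem hy hz
      | inv y _ hy =>
        have e : g * y⁻¹ * g⁻¹ = (g * y * g⁻¹)⁻¹ := by group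
        rw [e]; exact inv_mem hy
    intro g hg
    rw [mem_normalizer_iff]
    intro x
    refine ⟨key g hg x, fun hx => ?_⟩
    have h1 := key g⁻¹ (inv_mem hg) _ hx
    have e : g⁻¹ * (g * x * g⁻¹) * g⁻¹⁻¹ = x := by group
    rwa [e] at h1
  have hSM : (S : Subgroup G) ≤ MM := hmax _ le_rfl (lt_of_le_of_ne h.SP h.par.toIsMinPar.ne)
  rcases h.par.toIsPar.sup_eq_or_inf_le S (hNM.trans hMP.le) hNn with h1 | h1
  · exact absurd (h1 ▸ sup_le hNM hSM : P ≤ MM) (not_le_of_gt hMP)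
  · apply h.mov
    intro w hw
    have h2 : w ∈ o2 P := h1 ⟨h.WS hw, subset_closure ⟨1, one_mem _, w, hw, by group⟩⟩
    rw [← h.o2_eq] at h2
    exact h2.2

/-- The data of CLAIM A. -/
theorem exists_cb (hFF : StmtM.{u}) : ∃ MM : Subgroup G, MM < P ∧
    (∀ K : Subgroup G, (S : Subgroup G) ≤ K → K < P → K ≤ MM) ∧
      ClaimA.Cb P (S : Subgroup G) MM (o2 P) V (Flat.EE V F) F (Flat.WW V F) (BB V F (zl (S : Subgroup G) P))
        (zl (S : Subgroup G) P) := by
  obtain ⟨MM, hMP, hmax⟩ := h.par.toIsMinPar.exists_max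
  refine ⟨MM, hMP, hmax, ?_⟩
  have hno : ∀ {X : Subgroup G}, P ≤ normalizer (X : Set G) → ∀ g ∈ P, ∀ x ∈ X, g * x * g⁻¹ ∈ X :=
    fun hX g hg x hx => (mem_normalizer_iff.1 (hX hg) x).1 hx
  exact
    { S_le := h.SP
      max := fun H hSH hHP hHM => by
        by_contra hcon
        exact hHM (hmax H hSH (lt_of_le_not_ge hHP hcon))
      W_le := h.WP
      move := h.exists_move hMP hmax
      Q_norm := hno (le_normalizer_o2 P)
      V_norm := hno h.PV
      L_norm := hno h.PL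
      L_le := h.LV
      EW := fun e he w hw => by
        have h1 := inv_mem (h.hyp.comm_EW he hw)
        rw [c_def] at h1
        have e1 : (e * w * e⁻¹ * w⁻¹)⁻¹ = w * e * w⁻¹ * e⁻¹ := by group
        rwa [e1] at h1
      FW := fun f hf w hw => h.BB_comm_F hw hf
      B_Q := h.BB_le_o2
      B_W := inf_le_left
      a := fun x hx hb => by
        have h1 : x ∈ V ⊓ centralizer (BB V F (zl (S : Subgroup G) P) : Set G) :=
          ⟨hx, mem_centralizer_iff.2 hb⟩
        rw [h.cent_VB hFF] at h1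
        have hn : zl (S : Subgroup G) P ≤ normalizer (F : Set G) :=
          (h.LV.trans (h.hyp.comm.trans (centralizer_le h.hyp.F_le_V))).trans (centralizer_le_normalizer _)
        rw [← SetLike.mem_coe, coe_mul_of_left_le_normalizer_right _ _ hn] at h1
        obtain ⟨l, hl, f, hf, rfl⟩ := h1
        exact ⟨l, hl, f, hf, rfl⟩
      b := fun x hx hc => by
        have h1 : x ∈ CQ P V := ⟨hx, mem_centralizer_iff.2 hc⟩
        rwa [h.cent_VQ hFF] at h1 }

/-- `C_Z(P) = 1` -/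
theorem zc_free {z : G} (hz : z ∈ zc (S : Subgroup G)) (hP : ∀ p ∈ P, p * z = z * p) : z = 1 := by
  have h1 : z ∈ FrameFF.cv (S : Subgroup G) P := by
    exact ⟨MinSimple.VModule.zc_le_zl (S : Subgroup G) P hz, mem_centralizer_iff.2 fun p hp => hP p (oddGen_le P hp)⟩
  rw [h.cv] at h1
  exact mem_bot.1 h1

/-- **CLAIM A** for all FF types. -/
theorem claimA (hFF : StmtM.{u}) {LL : Subgroup G} (hL : zl (S : Subgroup G) P ≤ LL) (hV : LL ≤ V)
    (hS : ∀ g ∈ (S : Subgroup G), ∀ x ∈ LL, g * x * g⁻¹ ∈ LL)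
    (hQ : ∀ u ∈ LL, ∀ q ∈ o2 P, q * u * q⁻¹ * u⁻¹ ∈ zc (S : Subgroup G)) (hne : ¬ LL ≤ zl (S : Subgroup G) P) :
    ∃ g ∈ P, ∃ u ∈ LL, g * u * g⁻¹ ∉ Flat.EE V F := by
  obtain ⟨MM, hMP, hmax, hcb⟩ := h.exists_cb hFF
  have hcl := hcb.of_center (R := zc (S : Subgroup G)) h.WS
    (fun z hz s hs => (mem_zc.1 hz).2.1 s hs) (fun z hz hp => h.zc_free hz hp)
  obtain ⟨g, hg, -, u, hu, hgu⟩ := hcl.claim hL hV hS hQ hne
  exact ⟨g, hg, u, hu, hgu⟩

end Act

end Cfsg.Agent.Omega.NO3S.BetaFF
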