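import Cfsg.Agent.Omega.NOne.Flat.Six

/-!
# THEOREM BETA-FF(1) (helper284 #19171), the end (5) in the form (5') of helper424 #19716: `V_{P''} ≤ V`, `V_{P''} ≠ L`
is impossible

Left conjugation, `B₁ = C_W(L)`, `W = W_F ≤ S` moves `L`.  Everything is abstract: the outputs of (0), (3), (4) are
hypotheses.

* `Line S P Z L` : `L` is a line of `P` through `Z` (`S ≤ P ≤ N(L)`, `[L, S] ≤ Z ≤ L`, `C_S(L) = O₂(P)` in the form
  "`P` conjugates `C_S(L)` into `S`");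
* `PtLine S P Z L` : moreover the points `Z^g` intersect trivially and `s ∈ S - C(L)` moves every point `≠ Z`;
* `Side V F P Z L L₂` : the outputs of (3), (4) for `P` against `L₂`: `[E, C_W(L)] ≤ Z`, `V = L₂^y E`;
* `Inp V F S P P₂ Z L L₂ x` : the common hypotheses (`low`, NOFF for `(L, L)` and `(L₂, L)`, `C_V(L^x) ≤ L F`);
* `comm_VB` : `[V, C_W(L)] ≤ L`  (*);
* `case_ii` : `W` moves `L₂`;
* `Inp.star_two` : (*2) `[L, W^g] = 1` for `g ∈ P₂`, `Z^g ≠ Z`;  `Inp.quad` : `[V, L^x, L^x] = 1`;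
  `case_i` : `W` centralises `L₂`;
* `Inp.false_of` : both.
-/

set_option autoImplicit false

namespace Cfsg.Agent.Omega.NO3S.BetaFF.EndB

open Subgroup Cfsg Cfsg.Agent.Omega.NoFF.Basic Cfsg.Agent.Omega.NOne.Frame Cfsg.Agent.Omega.NOne.Flat
open Cfsg.Agent.Omega.NOne.NearFF (c c_def)
open scoped Pointwise

universe u

variable {G : Type u} [Group G]

/-- `L` is a line of `P` through `Z`. -/
structure Line (S P Z L : Subgroup G) : Prop where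
  SP : S ≤ P
  norm : P ≤ normalizer (L : Set G)
  ZL : Z ≤ L
  comm : ∀ l ∈ L, ∀ s ∈ S, c l s ∈ Z
  core : ∀ g ∈ P, ∀ s ∈ S, s ∈ centralizer (L : Set G) → g * s * g⁻¹ ∈ S

/-- `L` is a line of `P` through `Z`, with its points. -/
structure PtLine (S P Z L : Subgroup G) : Prop extends Line S P Z L where
  ti : ∀ g ∈ P, MulAut.conj g • Z ≠ Z → Z ⊓ MulAut.conj g • Z = ⊥
  mv : ∀ g ∈ P, MulAut.conj g • Z ≠ Z → ∀ s ∈ S, s ∉ centralizer (L : Set G) →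
    MulAut.conj (s * g) • Z ≠ MulAut.conj g • Z

/-- The outputs of (3), (4) for `P` against `L₂`: `[E, C_W(L)] ≤ Z` and `V = L₂^y E` for some `y ∈ P`. -/
structure Side (V F P Z L L₂ : Subgroup G) : Prop where
  E : ∀ e ∈ EE V F, ∀ b ∈ WW V F, b ∈ centralizer (L : Set G) → c e b ∈ Z
  span : ∃ y ∈ P, ∀ v ∈ V, ∃ l ∈ L₂, ∃ e ∈ EE V F, v = y * l * y⁻¹ * e

/-- The common hypotheses. -/
structure Inp (V F S P P₂ Z L L₂ : Subgroup G) (x : G) : Prop where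
  hyp : Hyp V F
  WS : WW V F ≤ S
  l : Line S P Z L
  l₂ : PtLine S P₂ Z L₂
  LV : L ≤ V
  L₂V : L₂ ≤ V
  PV : P ≤ normalizer (V : Set G)
  P₂V : P₂ ≤ normalizer (V : Set G)
  ZF : Z ≤ F
  /-- all lines on a point `Z^g ≤ F` lie in `E` -/
  low : ∀ g ∈ P₂, MulAut.conj g • Z ≤ F → MulAut.conj g • L ≤ EE V F
  low₂ : L₂ ≤ EE V F
  noff : ∀ g : G, L ≤ MulAut.conj g • P → MulAut.conj g • L ≤ P →
    L ≤ centralizer ((MulAut.conj g • L : Subgroup G) : Set G)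
  noff₂ : ∀ g : G, L₂ ≤ MulAut.conj g • P → MulAut.conj g • L ≤ P₂ →
    L₂ ≤ centralizer ((MulAut.conj g • L : Subgroup G) : Set G)
  hx : x ∈ centralizer (F : Set G)
  D : V ⊓ centralizer ((MulAut.conj x • L : Subgroup G) : Set G) ≤ L ⊔ F
  inf : L ⊓ L₂ ≤ Z

theorem conj_one_smul (H : Subgroup G) : MulAut.conj (1 : G) • H = H := by rw [map_one, one_smul]

/-- `Z^g = Z^h` iff `Z^{h⁻¹g} = Z`. -/
theorem conj_inv_mul_eq {g h : G} {Z : Subgroup G} :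
    MulAut.conj (h⁻¹ * g) • Z = Z ↔ MulAut.conj g • Z = MulAut.conj h • Z := by
  rw [← conj_conj]
  constructor
  · intro h1
    have h2 := congrArg (fun A : Subgroup G => MulAut.conj h • A) h1
    simpa only [conj_conj, mul_inv_cancel, map_one, one_smul, mul_inv_cancel_left] using h2
  · intro h1
    rw [h1, conj_conj, inv_mul_cancel, map_one, one_smul]

theorem mem_cent_iff {H : Subgroup G} {x : G} : x ∈ centralizer (H : Set G) ↔ ∀ h ∈ H, h * x = x * h :=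
  mem_centralizer_iff

/-! ### (*) -/

/-- **(*)** `V = L₂^y E`, `[E, B₁] ≤ Z` ⟹ `[V, B₁] ≤ L`. -/
theorem comm_VB {V F S P P₂ Z L L₂ : Subgroup G} (h : Hyp V F) (hWS : WW V F ≤ S) (hl : Line S P Z L)
    (hl₂ : Line S P₂ Z L₂) (hL₂ : L₂ ≤ V) (hPV : P ≤ normalizer (V : Set G)) (hs : Side V F P Z L L₂)
    {v b : G} (hv : v ∈ V) (hb : b ∈ WW V F) (hbL : b ∈ centralizer (L : Set G)) : c v b ∈ L := by
  obtain ⟨y, hy, hspan⟩ := hs.span
  obtain ⟨l, hlm, e, he, rfl⟩ := hspan v hv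
  have h1 : y * l * y⁻¹ ∈ V := norm_mem (hPV hy) (hL₂ hlm)
  rw [h.c_mul_left h1 he.1 hb]
  refine mul_mem ?_ (hl.ZL (hs.E e he b hb hbL))
  have h2 : y⁻¹ * b * y ∈ S := by
    have := hl.core y⁻¹ (inv_mem hy) b (hWS hb) hbL
    rwa [inv_inv] at this
  have h3 : c l (y⁻¹ * b * y) ∈ Z := hl₂.comm l hlm _ h2
  have h4 := norm_mem (hl.norm hy) (hl.ZL h3)
  have e1 : y * c l (y⁻¹ * b * y) * y⁻¹ = c (y * l * y⁻¹) b := by rw [c, c]; group
  rwa [e1] at h4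

section inp

variable {V F S P P₂ Z L L₂ : Subgroup G} {x : G}

theorem Inp.LE (h : Inp V F S P P₂ Z L L₂ x) : L ≤ EE V F := by
  have b2 := h.low 1 (one_mem _) (by rw [conj_one_smul]; exact h.ZF)
  rwa [conj_one_smul] at b2

/-- `W ≤ S^k` for `k ∈ C_G(F)`. -/
theorem Inp.W_le_conj (h : Inp V F S P P₂ Z L L₂ x) {k : G} (hk : k ∈ centralizer (F : Set G)) :
    WW V F ≤ MulAut.conj k • S := by
  rw [← Hyp.conj_W hk]
  exact conj_le_iff.2 h.WS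

/-- `Λ^k ≤ W` for `k ∈ C_G(F)`. -/
theorem Inp.conj_le_W (h : Inp V F S P P₂ Z L L₂ x) {k : G} (hk : k ∈ centralizer (F : Set G)) :
    MulAut.conj k • L ≤ WW V F := (conj_le_iff.2 h.LE).trans (Hyp.conjE_le_W hk)

/-- NOFF for two conjugates of `L`. -/
theorem Inp.noff' (h : Inp V F S P P₂ Z L L₂ x) {g k : G} (h1 : MulAut.conj g • L ≤ MulAut.conj k • P)
    (h2 : MulAut.conj k • L ≤ MulAut.conj g • P) :
    MulAut.conj g • L ≤ centralizer ((MulAut.conj k • L : Subgroup G) : Set G) := by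
  have k1 : L ≤ MulAut.conj (g⁻¹ * k) • P := by
    have := conj_le_iff (g := g⁻¹) |>.2 h1
    rwa [conj_conj, inv_mul_cancel, map_one, one_smul, conj_conj] at this
  have k2 : MulAut.conj (g⁻¹ * k) • L ≤ P := by
    have := conj_le_iff (g := g⁻¹) |>.2 h2
    rwa [conj_conj, conj_conj, inv_mul_cancel, map_one, one_smul] at this
  have k3 := conj_le_centralizer (g := g) (h.noff _ k1 k2)
  rwa [conj_conj, mul_inv_cancel_left] at k3

/-- Two lines `L^k`, `L^m` with `k, m ∈ C_G(F)` commute. -/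
theorem Inp.comm_conj_conj (h : Inp V F S P P₂ Z L L₂ x) {k m : G} (hk : k ∈ centralizer (F : Set G))
    (hm : m ∈ centralizer (F : Set G)) :
    MulAut.conj k • L ≤ centralizer ((MulAut.conj m • L : Subgroup G) : Set G) :=
  h.noff' (((h.conj_le_W hk).trans (h.W_le_conj hm)).trans (conj_le_iff.2 h.l.SP))
    (((h.conj_le_W hm).trans (h.W_le_conj hk)).trans (conj_le_iff.2 h.l.SP))

/-- **`[V, L^x, L^x] = 1`.** -/
theorem Inp.quad (h : Inp V F S P P₂ Z L L₂ x) {a b u : G} (ha : a ∈ MulAut.conj x • L)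
    (hb : b ∈ MulAut.conj x • L) (hu : u ∈ V) :
    b * (a * u * a⁻¹ * u⁻¹) = a * u * a⁻¹ * u⁻¹ * b := by
  have k1 : b * a = a * b := comm_of_le_centralizer (h.comm_conj_conj h.hx h.hx) hb ha
  have k2 : u * a⁻¹ * u⁻¹ ∈ MulAut.conj (u * x) • L := by
    rw [← conj_conj]
    exact conj_mem (inv_mem ha)
  have k3 : b * (u * a⁻¹ * u⁻¹) = u * a⁻¹ * u⁻¹ * b :=
    comm_of_le_centralizer (h.comm_conj_conj h.hx (mul_mem (h.hyp.V_le_X hu) h.hx)) hb k2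
  calc b * (a * u * a⁻¹ * u⁻¹) = b * a * (u * a⁻¹ * u⁻¹) := by group
    _ = a * (b * (u * a⁻¹ * u⁻¹)) := by rw [k1]; group
    _ = a * u * a⁻¹ * u⁻¹ * b := by rw [k3]; group

/-! ### `W` moves `L₂` -/

/-- **(5') (ii)** `W` moves `L₂`. -/
theorem Inp.case_ii [Finite G] (h : Inp V F S P P₂ Z L L₂ x)
    (h1 : ∀ v ∈ V, ∀ b ∈ WW V F, b ∈ centralizer (L : Set G) → c v b ∈ L)
    (h2 : ∀ v ∈ V, ∀ b ∈ WW V F, b ∈ centralizer (L₂ : Set G) → c v b ∈ L₂)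
    (hB : ∃ b ∈ WW V F, b ∈ centralizer (L : Set G) ∧ b ∉ NN V F) : False := by
  -- `L₂ ≤ L F`
  have k1 : MulAut.conj x • L ≤ P₂ := ((h.conj_le_W h.hx).trans h.WS).trans h.l₂.SP
  have k2 : L₂ ≤ MulAut.conj x • P :=
    ((h.low₂.trans Hyp.E_le_W).trans (h.W_le_conj h.hx)).trans (conj_le_iff.2 h.l.SP)
  have k3 : L₂ ≤ L ⊔ F := (le_inf h.L₂V (h.noff₂ x k2 k1)).trans h.D
  -- `B₁` centralises `L₂`
  obtain ⟨b, hb, hbL, hbN⟩ := hB
  have k4 : b ∈ centralizer (L₂ : Set G) := by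
    have a1 : L ⊔ F ≤ centralizer ({b} : Set G) := by
      refine sup_le ?_ ?_
      · intro l hl
        rw [mem_centralizer_iff]
        rintro _ rfl
        exact (mem_centralizer_iff.1 hbL l hl).symm
      · intro f hf
        rw [mem_centralizer_iff]
        rintro _ rfl
        exact (Hyp.F_comm hf (Hyp.W_le_X hb)).symm
    rw [mem_cent_iff]
    intro l hl
    exact (mem_centralizer_iff.1 (a1 (k3 hl)) b rfl).symm
  apply hbN
  rw [h.hyp.mem_NN]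
  exact ⟨hb, fun v hv => h.ZF (h.inf ⟨h1 v hv b hb hbL, h2 v hv b hb k4⟩)⟩

/-! ### `W` centralises `L₂` -/

/-- `[L F, W] ≤ Z`. -/
theorem Inp.comm_D (h : Inp V F S P P₂ Z L L₂ x) {d s : G} (hd : d ∈ L ⊔ F) (hs : s ∈ WW V F) : c d s ∈ Z := by
  let K : Subgroup G :=
    { carrier := {d | d ∈ V ∧ c d s ∈ Z}
      one_mem' := ⟨one_mem _, by rw [c]; simp⟩
      mul_mem' := by
        rintro a b ⟨ha, ha2⟩ ⟨hb, hb2⟩
        refine ⟨mul_mem ha hb, ?_⟩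
        rw [h.hyp.c_mul_left ha hb hs]
        exact mul_mem ha2 hb2
      inv_mem' := by
        rintro a ⟨ha, ha2⟩
        refine ⟨inv_mem ha, ?_⟩
        have e : a⁻¹ = a := h.hyp.inv ha
        show c a⁻¹ s ∈ Z
        rwa [e] }
  have h1 : L ⊔ F ≤ K := by
    refine sup_le (fun l hl => ⟨h.LV hl, h.l.comm l hl s (h.WS hs)⟩) fun f hf => ⟨h.hyp.F_le_V hf, ?_⟩
    rw [Hyp.c_F hf hs]
    exact one_mem _
  exact (h1 hd).2

/-- `[L^g, W] ≤ Z` for `g ∈ P₂`. -/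
theorem Inp.comm_conj [Finite G] (h : Inp V F S P P₂ Z L L₂ x) (hW : WW V F ≤ centralizer (L₂ : Set G)) {g l s : G}
    (hg : g ∈ P₂) (hl : l ∈ L) (hs : s ∈ WW V F) : c (g * l * g⁻¹) s ∈ Z := by
  have a1 : L₂ ≤ F := by
    rw [← h.hyp.cent_VW]
    exact le_inf h.L₂V (comm_symm hW)
  have a2 : MulAut.conj g • Z ≤ F := by
    refine le_trans ?_ a1
    intro z hz
    obtain ⟨z₀, hz₀, rfl⟩ := mem_conj'.1 hz
    exact norm_mem (h.l₂.norm hg) (h.l₂.ZL hz₀)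
  have a3 := h.low g hg a2
  have a5 : MulAut.conj x • L ≤ MulAut.conj g • P := by
    intro w hw
    have w1 := h.conj_le_W h.hx hw
    have := h.l₂.core g⁻¹ (inv_mem hg) w (h.WS w1) (hW w1)
    rw [inv_inv] at this
    exact mem_conj.2 (h.l.SP this)
  have a6 : MulAut.conj g • L ≤ MulAut.conj x • P :=
    ((a3.trans Hyp.E_le_W).trans (h.W_le_conj h.hx)).trans (conj_le_iff.2 h.l.SP)
  have a7 : MulAut.conj g • L ≤ L ⊔ F := (le_inf (a3.trans inf_le_left) (h.noff' a6 a5)).trans h.D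
  exact h.comm_D (a7 (mem_conj'.2 ⟨l, hl, rfl⟩)) hs

/-- **(*2)** `[L, W^g] = 1` for `g ∈ P₂`, `Z^g ≠ Z`. -/
theorem Inp.star_two [Finite G] (h : Inp V F S P P₂ Z L L₂ x) (hW : WW V F ≤ centralizer (L₂ : Set G)) {g l s : G}
    (hg : g ∈ P₂) (hgZ : MulAut.conj g • Z ≠ Z) (hl : l ∈ L) (hs : s ∈ WW V F) :
    l * (g * s * g⁻¹) = g * s * g⁻¹ * l := by
  have a1 : c l (g * s * g⁻¹) ∈ Z := h.l.comm l hl _ (h.l₂.core g hg s (h.WS hs) (hW hs))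
  have a2 : c l (g * s * g⁻¹) ∈ MulAut.conj g • Z := by
    rw [mem_conj]
    have b1 := h.comm_conj hW (inv_mem hg) hl hs
    have e : c (g⁻¹ * l * g⁻¹⁻¹) s = g⁻¹ * c l (g * s * g⁻¹) * g := by rw [c, c]; group
    rwa [e] at b1
  have a3 : c l (g * s * g⁻¹) ∈ Z ⊓ MulAut.conj g • Z := ⟨a1, a2⟩
  rw [h.l₂.ti g hg hgZ, mem_bot] at a3
  have e : l * (g * s * g⁻¹) = c l (g * s * g⁻¹) * (g * s * g⁻¹ * l) := by rw [c]; group
  rw [e, a3, one_mul]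

/-- (*2) for two points: `[L^k, W^g] = 1` for `g, k ∈ P₂`, `Z^g ≠ Z^k`. -/
theorem Inp.star_three [Finite G] (h : Inp V F S P P₂ Z L L₂ x) (hW : WW V F ≤ centralizer (L₂ : Set G))
    {g k l s : G} (hg : g ∈ P₂) (hk : k ∈ P₂) (hgk : MulAut.conj g • Z ≠ MulAut.conj k • Z) (hl : l ∈ L)
    (hs : s ∈ WW V F) : k * l * k⁻¹ * (g * s * g⁻¹) = g * s * g⁻¹ * (k * l * k⁻¹) := by
  have a1 : MulAut.conj (k⁻¹ * g) • Z ≠ Z := fun h1 => hgk (conj_inv_mul_eq.1 h1)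
  have a2 := h.star_two hW (mul_mem (inv_mem hk) hg) a1 hl hs
  calc k * l * k⁻¹ * (g * s * g⁻¹) = k * (l * (k⁻¹ * g * s * (k⁻¹ * g)⁻¹)) * k⁻¹ := by group
    _ = k * (k⁻¹ * g * s * (k⁻¹ * g)⁻¹ * l) * k⁻¹ := by rw [a2]
    _ = g * s * g⁻¹ * (k * l * k⁻¹) := by group

/-- The identity behind quadratic action: `b` commutes with `[a, u]` ⟹ `u = u^b (u^{ba})⁻¹ u^a`. -/
theorem quad_id {a b u : G} (hq : b * (a * u * a⁻¹ * u⁻¹) = a * u * a⁻¹ * u⁻¹ * b) :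
    u = b * u * b⁻¹ * (b * a * u * (b * a)⁻¹)⁻¹ * (a * u * a⁻¹) := by
  have k1 : b * a * u * (b * a)⁻¹ * (b * u * b⁻¹)⁻¹ = a * u * a⁻¹ * u⁻¹ := by
    calc b * a * u * (b * a)⁻¹ * (b * u * b⁻¹)⁻¹ = b * (a * u * a⁻¹ * u⁻¹) * b⁻¹ := by group
      _ = a * u * a⁻¹ * u⁻¹ * b * b⁻¹ := by rw [hq]
      _ = a * u * a⁻¹ * u⁻¹ := by group
  have k2 : b * u * b⁻¹ * (b * a * u * (b * a)⁻¹)⁻¹ = (a * u * a⁻¹ * u⁻¹)⁻¹ := by
    rw [← k1]; group
  rw [k2]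
  group

/-- **(5') (i)** `W` centralises `L₂`; `A` is any subgroup of `S`, quadratic on `V`, inducing more than `2` elements
on `L₂`. -/
theorem Inp.case_i [Finite G] {A : Subgroup G} (h : Inp V F S P P₂ Z L L₂ x)
    (hW : WW V F ≤ centralizer (L₂ : Set G)) (hWL : ¬ WW V F ≤ centralizer (L : Set G)) (hAS : A ≤ S)
    (hquad : ∀ a ∈ A, ∀ b ∈ A, ∀ u ∈ V, b * (a * u * a⁻¹ * u⁻¹) = a * u * a⁻¹ * u⁻¹ * b)
    (hA : ∃ a ∈ A, ∃ b ∈ A, a ∉ centralizer (L₂ : Set G) ∧ b ∉ centralizer (L₂ : Set G) ∧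
      b * a ∉ centralizer (L₂ : Set G))
    (hg : ∃ g ∈ P₂, MulAut.conj g • Z ≠ Z) : False := by
  obtain ⟨g, hg, hgZ⟩ := hg
  obtain ⟨a, ha, b, hb, ha₂, hb₂, hab₂⟩ := hA
  apply hWL
  intro s hs
  rw [mem_cent_iff]
  intro l hl
  have aS := hAS ha
  have bS := hAS hb
  have uV : g * l * g⁻¹ ∈ V := norm_mem (h.P₂V hg) (h.LV hl)
  have q := quad_id (hquad a ha b hb _ uV)
  -- the three conjugates commute with `w = g s g⁻¹`
  have key : ∀ t ∈ S, t ∉ centralizer (L₂ : Set G) →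
      Commute (t * (g * l * g⁻¹) * t⁻¹) (g * s * g⁻¹) := by
    intro t ht ht₂
    have k1 := h.star_three hW hg (mul_mem (h.l₂.SP ht) hg) (h.l₂.mv g hg hgZ t ht ht₂).symm hl hs
    have e : t * (g * l * g⁻¹) * t⁻¹ = t * g * l * (t * g)⁻¹ := by group
    rw [e]
    exact k1
  have k1 := key a aS ha₂
  have k2 := key b bS hb₂
  have k3 := key (b * a) (mul_mem bS aS) hab₂
  have k4 : Commute (g * l * g⁻¹) (g * s * g⁻¹) := by
    rw [q]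
    exact (k2.mul_left k3.inv_left).mul_left k1
  have k5 : g * l * g⁻¹ * (g * s * g⁻¹) = g * s * g⁻¹ * (g * l * g⁻¹) := k4
  calc l * s = g⁻¹ * (g * l * g⁻¹ * (g * s * g⁻¹)) * g := by group
    _ = g⁻¹ * (g * s * g⁻¹ * (g * l * g⁻¹)) * g := by rw [k5]
    _ = s * l := by group

/-- `A = (L^x)^y ≤ S` is quadratic on `V`. -/
theorem Inp.A_le (h : Inp V F S P P₂ Z L L₂ x) {y : G} (hy : y ∈ P) : MulAut.conj (y * x) • L ≤ S := by
  intro w hw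
  rw [← conj_conj] at hw
  obtain ⟨a, ha, rfl⟩ := mem_conj'.1 hw
  refine h.l.core y hy a (h.WS (h.conj_le_W h.hx ha)) ?_
  have k := h.comm_conj_conj h.hx (one_mem (centralizer (F : Set G))) ha
  rwa [conj_one_smul] at k

theorem Inp.A_quad (h : Inp V F S P P₂ Z L L₂ x) {y : G} (hy : y ∈ P) {a b u : G}
    (ha : a ∈ MulAut.conj (y * x) • L) (hb : b ∈ MulAut.conj (y * x) • L) (hu : u ∈ V) :
    b * (a * u * a⁻¹ * u⁻¹) = a * u * a⁻¹ * u⁻¹ * b := by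
  rw [← conj_conj] at ha hb
  obtain ⟨a₀, ha₀, rfl⟩ := mem_conj'.1 ha
  obtain ⟨b₀, hb₀, rfl⟩ := mem_conj'.1 hb
  have k := h.quad ha₀ hb₀ (norm_mem' (h.PV hy) hu)
  calc y * b₀ * y⁻¹ * (y * a₀ * y⁻¹ * u * (y * a₀ * y⁻¹)⁻¹ * u⁻¹) =
      y * (b₀ * (a₀ * (y⁻¹ * u * y) * a₀⁻¹ * (y⁻¹ * u * y)⁻¹)) * y⁻¹ := by group
    _ = y * (a₀ * (y⁻¹ * u * y) * a₀⁻¹ * (y⁻¹ * u * y)⁻¹ * b₀) * y⁻¹ := by rw [k]
    _ = y * a₀ * y⁻¹ * u * (y * a₀ * y⁻¹)⁻¹ * u⁻¹ * (y * b₀ * y⁻¹) := by group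

/-- **(5').** `W` moves `L`; `Side` for `(P, L₂)` [and for `(P₂, L)` if `W` moves `L₂`]; `C_W(L) ≰ N`; for some
`y ∈ P` the group `(L^x)^y` induces more than `2` elements on `L₂`; `P₂` moves `Z`. -/
theorem Inp.false_of [Finite G] (h : Inp V F S P P₂ Z L L₂ x) (hWL : ¬ WW V F ≤ centralizer (L : Set G))
    (hs : Side V F P Z L L₂) (hs₂ : ¬ WW V F ≤ centralizer (L₂ : Set G) → Side V F P₂ Z L₂ L)
    (hB : ∃ b ∈ WW V F, b ∈ centralizer (L : Set G) ∧ b ∉ NN V F)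
    (hA : ∃ y ∈ P, ∃ a ∈ MulAut.conj (y * x) • L, ∃ b ∈ MulAut.conj (y * x) • L,
      a ∉ centralizer (L₂ : Set G) ∧ b ∉ centralizer (L₂ : Set G) ∧ b * a ∉ centralizer (L₂ : Set G))
    (hg : ∃ g ∈ P₂, MulAut.conj g • Z ≠ Z) : False := by
  by_cases hW : WW V F ≤ centralizer (L₂ : Set G)
  · obtain ⟨y, hy, hab⟩ := hA
    exact h.case_i hW hWL (h.A_le hy) (fun a ha b hb u hu => h.A_quad hy ha hb hu) hab hg
  · exact h.case_ii (fun v hv b hb hbL => comm_VB h.hyp h.WS h.l h.l₂.toLine h.L₂V h.PV hs hv hb hbL)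
      (fun v hv b hb hbL => comm_VB h.hyp h.WS h.l₂.toLine h.l h.LV h.P₂V (hs₂ hW) hv hb hbL) hB

end inp

end Cfsg.Agent.Omega.NO3S.BetaFF.EndB
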