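import Cfsg.Agent.Omega.Spread.OffAll
import Cfsg.Agent.Omega.NO3S.Fld.Mods

/-!
# THEOREM BETA-FF(1) (helper284 #19171): the frame

`F` a maximal bad subgroup of `V`, `E = V ∩ O₂(C_G(F))`, `W = W_F`, `N = C_W(E)` (THEOREM FLAT); `L ≤ V` a natural
`SL₂(r)`-module of `P` (adapted coordinates `M : Crd K S P L`), `R` the root line of `L` (`R = Z` if `S` induces no
field automorphism), `W ≤ C_S(R)` moves `L`, `Q = C_S(L)`, `B₁ = C_W(L)`; `U` an abelian group which contains `L`, normalised by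
`C_G(R)`, in `O₂(C_G(R))` (the group generated by the lines on `R`).
-/

set_option autoImplicit false

namespace Cfsg.Agent.Omega.BetaFF

open Subgroup Cfsg Cfsg.Agent.Omega.NOne.Flat Cfsg.Agent.Omega.NO3S.Fld
open Cfsg.Agent.Omega.NOne.NearFF (c c_def)
open Cfsg.Agent.ZN (o2)
open scoped Pointwise

universe u

set_option maxHeartbeats 400000

/-- **The frame of BETA-FF(1).** `K` the field of `r` elements; `M.R` is the root line `R` (`= Z` without field
automorphisms). -/
structure Fr (K : Type*) [Field K] {G : Type u} [Group G] [Finite G] (S : Sylow 2 G) (P V F L U : Subgroup G) where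
  hyp : NOne.Flat.Hyp V F
  SP : (S : Subgroup G) ≤ P
  /-- `V` is `P`-invariant -/
  PV : P ≤ normalizer (V : Set G)
  PL : P ≤ normalizer (L : Set G)
  LV : L ≤ V
  M : Crd K (S : Subgroup G) P L
  /-- `W ≤ S` -/
  WS : WW V F ≤ (S : Subgroup G)
  /-- `W` induces no field automorphism -/
  WR : WW V F ≤ centralizer (M.R : Set G)
  /-- `W` moves `L` -/
  mv : ¬ WW V F ≤ centralizer (L : Set G)
  /-- `C_S(L) = O₂(P)` -/
  PQ : P ≤ normalizer (((S : Subgroup G) ⊓ centralizer (L : Set G) : Subgroup G) : Set G)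
  LU : L ≤ U
  Ucomm : U ≤ centralizer (U : Set G)
  Uo2 : U ≤ o2 (centralizer (M.R : Set G))
  UN : centralizer (M.R : Set G) ≤ normalizer (U : Set G)

namespace Fr

variable {K : Type*} [Field K] {G : Type u} [Group G] [Finite G] {S : Sylow 2 G} {P V F L U : Subgroup G}

/-- `Q = C_S(L)` -/
abbrev Q (_h : Fr K S P V F L U) : Subgroup G := (S : Subgroup G) ⊓ centralizer (L : Set G)

/-- `B₁ = C_W(L)` -/
abbrev B1 (_h : Fr K S P V F L U) : Subgroup G := WW V F ⊓ centralizer (L : Set G)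

variable (h : Fr K S P V F L U)
include h

theorem R_le_L : h.M.R ≤ L := h.M.R_le

theorem R_le_V : h.M.R ≤ V := h.M.R_le.trans h.LV

theorem B1_le_Q : h.B1 ≤ h.Q := inf_le_inf_right _ h.WS

theorem B1_le_W : h.B1 ≤ WW V F := inf_le_left

/-- `R ≤ F` -/
theorem R_le_F : h.M.R ≤ F := by
  refine (le_inf h.R_le_V ?_).trans h.hyp.cent_VW.le
  intro z hz
  rw [mem_centralizer_iff]
  intro w hw
  exact (mem_centralizer_iff.1 (h.WR hw) z hz).symm

theorem CF_le_CR : centralizer (F : Set G) ≤ centralizer (h.M.R : Set G) := centralizer_le h.R_le_F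

/-- `V ∩ U ≤ E` -/
theorem VU_le_E : V ⊓ U ≤ EE V F := by
  refine le_inf inf_le_left ?_
  have h1 : V ⊓ U ≤ o2 (centralizer (h.M.R : Set G)) ⊓ centralizer (F : Set G) :=
    le_inf (inf_le_right.trans h.Uo2) (inf_le_left.trans h.hyp.V_le_X)
  refine h1.trans ?_
  refine MinSimple.VModule.le_o2 inf_le_right ((ZN.isPGroup_o2 _).to_le inf_le_left) ?_
  intro x hx
  have h2 := MinSimple.VModule.le_normalizer_o2 (centralizer (h.M.R : Set G)) (h.CF_le_CR hx)
  have h3 : x ∈ normalizer (centralizer (F : Set G) : Set G) := Subgroup.le_normalizer hx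
  rw [mem_normalizer_iff] at h2 h3 ⊢
  intro y
  rw [mem_inf, mem_inf, ← h2 y, ← h3 y]

theorem L_le_VU : L ≤ V ⊓ U := le_inf h.LV h.LU

theorem L_le_E : L ≤ EE V F := h.L_le_VU.trans h.VU_le_E

/-- `L ∩ F = R` -/
theorem L_inf_F : L ⊓ F = h.M.R := by
  apply le_antisymm
  · rintro v ⟨hvL, hvF⟩
    obtain ⟨w, hw, hwL⟩ := SetLike.not_le_iff_exists.1 h.mv
    have hwX : w ∈ centralizer (F : Set G) := NOne.Flat.Hyp.W_le_X (V := V) (F := F) hw
    exact h.M.fix (h.WS hw) (h.WR hw) hwL hvL (NOne.Flat.Hyp.F_comm hvF hwX).symm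
  · exact le_inf h.R_le_L h.R_le_F

theorem L_inf_CW : L ⊓ centralizer (WW V F : Set G) = h.M.R := by
  rw [← h.L_inf_F]
  apply le_antisymm
  · exact le_inf inf_le_left ((inf_le_inf_right _ h.LV).trans h.hyp.cent_VW.le)
  · exact le_inf inf_le_left (inf_le_right.trans (h.hyp.cent_VW.ge.trans inf_le_right))

end Fr

end Cfsg.Agent.Omega.BetaFF
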