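import Cfsg.Agent.Omega.NO3S.BetaFF.Pts
import Cfsg.Agent.Omega.NoFF.Main

/-!
# THEOREM BETA-FF(1) (helper284 #19171), section (1): `C_V(Q) = L`
-/

set_option autoImplicit false

namespace Cfsg.Agent.Omega.BetaFF

open Subgroup Cfsg Cfsg.Agent.Omega.NOne.Flat Cfsg.Agent.Omega.NO3S.Fld
open Cfsg.Agent.Omega.NOne.NearFF (c c_def)
open Cfsg.Agent.ZN (o2)
open Cfsg.Agent.Omega.NatPair (ap ap_zero' ap_one' ap_mul ap_inv_ap ap_ap_inv ext2)
open Cfsg.Agent.Lib.SL2Mat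
open scoped Pointwise

universe u

namespace Fr

variable {K : Type*} [Field K] {G : Type u} [Group G] [Finite G] {S : Sylow 2 G} {P V F L U : Subgroup G}
  (h : Fr K S P V F L U)

/-- `t` acts on `L` as `A` -/
def Acts (h : Fr K S P V F L U) (t : G) (A : Matrix.SpecialLinearGroup (Fin 2) K) : Prop :=
  ∀ x, t * h.M.e x * t⁻¹ = h.M.e (ap A x)

variable {h}

theorem Acts.mul {s t : G} {A B : Matrix.SpecialLinearGroup (Fin 2) K} (hs : h.Acts s A) (ht : h.Acts t B) :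
    h.Acts (s * t) (A * B) := by
  intro x
  have e1 : s * t * h.M.e x * (s * t)⁻¹ = s * (t * h.M.e x * t⁻¹) * s⁻¹ := by group
  rw [e1, ht, hs, ap_mul]

theorem Acts.inv {s : G} {A : Matrix.SpecialLinearGroup (Fin 2) K} (hs : h.Acts s A) : h.Acts s⁻¹ A⁻¹ := by
  intro x
  have h1 := hs (ap A⁻¹ x)
  rw [ap_ap_inv] at h1
  rw [← h1]
  group

variable (h)
include h

theorem acts_up {w : G} {a : K} (hw : h.M.Act w (RingEquiv.refl K) a) : h.Acts w (up a) := by
  intro x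
  rw [hw x]
  congr 1
  apply ext2
  · rw [ap_zero', up_00, up_01]; simp
  · rw [ap_one', up_10, up_11]; simp

/-- a subgroup which contains the root elements of both kinds induces `SL₂(K)` -/
theorem acts_all {T : Subgroup G} (h1 : ∀ a, ∃ t ∈ T, h.Acts t (up a)) (h2 : ∀ a, ∃ t ∈ T, h.Acts t (lo a))
    (A : Matrix.SpecialLinearGroup (Fin 2) K) : ∃ t ∈ T, h.Acts t A := by
  have key : ∀ A : Matrix.SpecialLinearGroup (Fin 2) K, ent A 1 0 ≠ 0 → ∃ t ∈ T, h.Acts t A := by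
    intro A hA
    obtain ⟨t1, ht1, ha1⟩ := h1 ((ent A 0 0 - 1) / ent A 1 0)
    obtain ⟨t2, ht2, ha2⟩ := h2 (ent A 1 0)
    obtain ⟨t3, ht3, ha3⟩ := h1 ((ent A 1 1 - 1) / ent A 1 0)
    refine ⟨t1 * t2 * t3, mul_mem (mul_mem ht1 ht2) ht3, ?_⟩
    have e : A = up ((ent A 0 0 - 1) / ent A 1 0) * lo (ent A 1 0) * up ((ent A 1 1 - 1) / ent A 1 0) := by
      have hd := det_eq A
      refine ext_ent ?_ ?_ ?_ ?_
      · rw [ent_mul, ent_mul, ent_mul]
        simp only [up_00, up_01, up_10, up_11, lo_00, lo_01, lo_10, lo_11]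
        field_simp
        ring
      · rw [ent_mul, ent_mul, ent_mul]
        simp only [up_00, up_01, up_10, up_11, lo_00, lo_01, lo_10, lo_11]
        field_simp
        linear_combination (-1 : K) * hd
      · rw [ent_mul, ent_mul, ent_mul]
        simp only [up_00, up_01, up_10, up_11, lo_00, lo_01, lo_10, lo_11]
        ring
      · rw [ent_mul, ent_mul, ent_mul]
        simp only [up_00, up_01, up_10, up_11, lo_00, lo_01, lo_10, lo_11]
        field_simp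
        ring
    rw [e]
    exact (ha1.mul ha2).mul ha3
  by_cases hA : ent A 1 0 = 0
  · have hA' : ent (lo 1 * A) 1 0 ≠ 0 := by
      rw [ent_mul, lo_10, lo_11, hA, one_mul, one_mul, add_zero]
      intro h0
      have hd := det_eq A
      rw [h0, hA] at hd
      simp at hd
    obtain ⟨t, ht, ha⟩ := key _ hA'
    obtain ⟨s, hs, ha'⟩ := h2 1
    refine ⟨s⁻¹ * t, mul_mem (inv_mem hs) ht, ?_⟩
    have := ha'.inv.mul ha
    rwa [inv_mul_cancel_left] at this
  · exact key A hA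

/-- a 2-element of `C_P(L)` lies in `Q` -/
theorem mem_Q {u : G} (hu : u ∈ P) (huL : u ∈ centralizer (L : Set G)) {k : ℕ} (hk : u ^ 2 ^ k = 1) : u ∈ h.Q := by
  have hpg : IsPGroup 2 (zpowers u) := by
    intro x
    obtain ⟨x, hx⟩ := x
    obtain ⟨n, rfl⟩ := mem_zpowers_iff.1 hx
    refine ⟨k, Subtype.ext ?_⟩
    show (u ^ n) ^ 2 ^ k = 1
    rw [← zpow_natCast, ← zpow_mul, mul_comm, zpow_mul, zpow_natCast, hk, one_zpow]
  have : Fact (Nat.Prime 2) := ⟨Nat.prime_two⟩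
  obtain ⟨m, hm, hle⟩ := NoFF.Main.exists_le_conj S h.SP hpg (zpowers_le.2 hu)
  have h1 : m⁻¹ * u * m ∈ (S : Subgroup G) := mem_cj.1 (hle (mem_zpowers u))
  have h2 : m⁻¹ * u * m ∈ centralizer (L : Set G) := by
    rw [mem_centralizer_iff]
    intro l hl
    have h3 : m * l * m⁻¹ ∈ L := (mem_normalizer_iff.1 (h.PL hm) l).1 hl
    have h4 := mem_centralizer_iff.1 huL _ h3
    have h5 := congrArg (fun s => m⁻¹ * s * m) h4
    simpa [mul_assoc] using h5
  have h3 : m⁻¹ * u * m ∈ h.Q := ⟨h1, h2⟩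
  have h4 := (mem_normalizer_iff.1 (h.PQ hm) _).1 h3
  have e : m * (m⁻¹ * u * m) * m⁻¹ = u := by group
  rwa [e] at h4

/-- `u ∈ C_P(L)`, `[Y₀, u] ≤ L` for `Y₀ = C_V(Q)` ⟹ `u` centralises `Y₀` -/
theorem cent_of {u : G} (hu : u ∈ P) (huL : u ∈ centralizer (L : Set G)) {y : G}
    (hy : y ∈ V ⊓ centralizer (h.Q : Set G)) (huy : u * y * u⁻¹ * y⁻¹ ∈ L) : u * y * u⁻¹ = y := by
  obtain ⟨a, m, hm, e⟩ := Nat.exists_eq_two_pow_mul_odd (n := orderOf u) (orderOf_pos u).ne'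
  -- `u²` commutes with `y`
  set l := u * y * u⁻¹ * y⁻¹ with hl
  have hul : u * l * u⁻¹ = l := by
    rw [← mem_centralizer_iff.1 huL l huy, mul_inv_cancel_right]
  have h1 : u * y * u⁻¹ = l * y := by rw [hl]; group
  have hll : l * l = 1 := h.hyp.sq' (h.LV huy)
  have h2 : u ^ 2 * y * (u ^ 2)⁻¹ = y := by
    have e1 : u ^ 2 * y * (u ^ 2)⁻¹ = u * (u * y * u⁻¹) * u⁻¹ := by rw [pow_two]; group
    have e2 : u * (l * y) * u⁻¹ = (u * l * u⁻¹) * (u * y * u⁻¹) := by group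
    rw [e1, h1, e2, hul, h1, ← mul_assoc, hll, one_mul]
  -- `u^m` commutes with `y`
  have h3 : u ^ m ∈ h.Q := by
    refine h.mem_Q (pow_mem hu m) (pow_mem huL m) (k := a) ?_
    rw [← pow_mul, mul_comm m, ← e, pow_orderOf_eq_one]
  have h4 : u ^ m * y * (u ^ m)⁻¹ = y := by
    rw [mem_centralizer_iff.1 hy.2 _ h3, mul_inv_cancel_right]
  -- `m` is odd
  obtain ⟨k, hk⟩ := hm
  have h5 : ∀ n : ℕ, (u ^ 2) ^ n * y * ((u ^ 2) ^ n)⁻¹ = y := by
    intro n
    induction n with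
    | zero => simp
    | succ n ih =>
      calc (u ^ 2) ^ (n + 1) * y * ((u ^ 2) ^ (n + 1))⁻¹
          = (u ^ 2) ^ n * (u ^ 2 * y * (u ^ 2)⁻¹) * ((u ^ 2) ^ n)⁻¹ := by rw [pow_succ]; group
        _ = y := by rw [h2, ih]
  have h6 : u ^ m = u * (u ^ 2) ^ k := by
    rw [hk, ← pow_mul, ← pow_succ', mul_comm 2 k]
  rw [h6] at h4
  calc u * y * u⁻¹ = u * ((u ^ 2) ^ k * y * ((u ^ 2) ^ k)⁻¹) * u⁻¹ := by rw [h5]
    _ = u * (u ^ 2) ^ k * y * (u * (u ^ 2) ^ k)⁻¹ := by group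
    _ = y := h4

/-- the elements of `P` with `[Y₀, g] ≤ L` -/
def DD : Subgroup G where
  carrier := {g | g ∈ P ∧ ∀ y ∈ V ⊓ centralizer (h.Q : Set G), g * y * g⁻¹ * y⁻¹ ∈ L}
  one_mem' := ⟨one_mem _, fun y _ => by
    have e : 1 * y * 1⁻¹ * y⁻¹ = 1 := by group
    rw [e]; exact one_mem _⟩
  mul_mem' := by
    rintro g g' ⟨hg, h1⟩ ⟨hg', h2⟩
    refine ⟨mul_mem hg hg', fun y hy => ?_⟩
    have e : g * g' * y * (g * g')⁻¹ * y⁻¹ = (g * (g' * y * g'⁻¹ * y⁻¹) * g⁻¹) * (g * y * g⁻¹ * y⁻¹) := by group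
    rw [e]
    exact mul_mem ((mem_normalizer_iff.1 (h.PL hg) _).1 (h2 y hy)) (h1 y hy)
  inv_mem' := by
    rintro g ⟨hg, h1⟩
    refine ⟨inv_mem hg, fun y hy => ?_⟩
    have e : g⁻¹ * y * g⁻¹⁻¹ * y⁻¹ = (g⁻¹ * (g * y * g⁻¹ * y⁻¹) * g⁻¹⁻¹)⁻¹ := by group
    rw [e]
    exact inv_mem ((mem_normalizer_iff.1 (h.PL (inv_mem hg)) _).1 (h1 y hy))

theorem Q_cj {p : G} (hp : p ∈ P) : MulAut.conj p • (V ⊓ centralizer (h.Q : Set G)) = V ⊓ centralizer (h.Q : Set G) := by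
  rw [Subgroup.smul_inf, h.cjV hp, NOne.Flat.conj_centralizer, NOne.Flat.conj_eq_of_norm (h.PQ hp)]

theorem cj_mem_Y {p y : G} (hp : p ∈ P) (hy : y ∈ V ⊓ centralizer (h.Q : Set G)) :
    p * y * p⁻¹ ∈ V ⊓ centralizer (h.Q : Set G) := by
  have := cj_mem_cj (g := p) hy
  rwa [h.Q_cj hp] at this

theorem Y_le : V ⊓ centralizer (h.Q : Set G) ≤ L ⊔ F := by
  rw [← h.cent_V]
  exact inf_le_inf_left _ (centralizer_le h.B1_le_Q)

theorem L_le_Y : L ≤ V ⊓ centralizer (h.Q : Set G) := by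
  refine le_inf h.LV ?_
  intro l hl
  rw [mem_centralizer_iff]
  exact fun q hq => (mem_centralizer_iff.1 hq.2 l hl).symm

theorem W_le_P : WW V F ≤ P := h.WS.trans h.SP

/-- `W^g ≤ D` -/
theorem W_le_DD {g : G} (hg : g ∈ P) : MulAut.conj g • WW V F ≤ h.DD := by
  intro s hs
  have hs' := mem_cj.1 hs
  have hsP : s ∈ P := by
    have := mul_mem (mul_mem hg (h.W_le_P hs')) (inv_mem hg)
    have e : g * (g⁻¹ * s * g) * g⁻¹ = s := by group
    rwa [e] at this
  refine ⟨hsP, fun y hy => ?_⟩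
  have hy' : g⁻¹ * y * g ∈ V ⊓ centralizer (h.Q : Set G) := by
    have := h.cj_mem_Y (inv_mem hg) hy
    rwa [inv_inv] at this
  have h1 := h.comm_LF (h.Y_le hy') hs'
  have h2 := h.M.R_le (inv_mem h1)
  have h3 := (mem_normalizer_iff.1 (h.PL hg) _).1 h2
  have e : g * (c (g⁻¹ * y * g) (g⁻¹ * s * g))⁻¹ * g⁻¹ = s * y * s⁻¹ * y⁻¹ := by rw [c]; group
  rwa [e] at h3

end Fr

/-- **(1)** `C_V(Q) = L` -/
theorem Fr.cent_Q {K : Type*} [Field K] {G : Type u} [Group G] [Finite G] {S : Sylow 2 G} {P V F L U : Subgroup G}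
    (h : Fr K S P V F L U) (hz : V ⊓ centralizer (S : Set G) ≤ L) :
    V ⊓ centralizer (h.Q : Set G) = L := by
  refine le_antisymm ?_ h.L_le_Y
  set Y : Subgroup G := V ⊓ centralizer (h.Q : Set G) with hY
  -- the opposite element
  obtain ⟨p, hp, hpa⟩ := h.M.lift (wm 1 one_ne_zero)
  set T : Subgroup G := WW V F ⊔ MulAut.conj p • WW V F with hT
  have hTD : T ≤ h.DD := by
    refine sup_le ?_ (h.W_le_DD hp)
    have := h.W_le_DD (one_mem P)
    rwa [map_one, one_smul] at this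
  have hup : ∀ a, ∃ t ∈ T, h.Acts t (up a) := by
    intro a
    obtain ⟨w, hw, ha⟩ := h.exists_act a
    exact ⟨w, le_sup_left (a := WW V F) hw, h.acts_up ha⟩
  have hlo : ∀ a, ∃ t ∈ T, h.Acts t (lo a) := by
    intro a
    obtain ⟨w, hw, ha⟩ := h.exists_act (-a)
    refine ⟨p * w * p⁻¹, le_sup_right (b := MulAut.conj p • WW V F) (cj_mem_cj hw), ?_⟩
    have hp' : h.Acts p (wm 1 one_ne_zero) := hpa
    have h1 := (hp'.mul (h.acts_up ha)).mul hp'.inv
    have e : wm 1 one_ne_zero * up (-a) * (wm (1 : K) one_ne_zero)⁻¹ = lo a := by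
      rw [mul_inv_eq_iff_eq_mul]
      refine ext_ent ?_ ?_ ?_ ?_ <;> rw [ent_mul, ent_mul] <;> simp
    rwa [e] at h1
  -- `C_Y(T)` is centralised by every `W^g`
  have hall : ∀ y ∈ Y, y ∈ centralizer (T : Set G) → ∀ g ∈ P, ∀ s ∈ MulAut.conj g • WW V F, s * y * s⁻¹ = y := by
    intro y hy hyT g hg s hs
    have hs' := mem_cj.1 hs
    obtain ⟨a, ha⟩ := h.exists_root hs'
    obtain ⟨B, hB⟩ := h.M.norm g hg (g⁻¹ * s * g) (up a) (h.acts_up ha)
    have e : g * (g⁻¹ * s * g) * g⁻¹ = s := by group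
    rw [e] at hB
    have hB' : h.Acts s B := hB
    obtain ⟨t, ht, hta⟩ := h.acts_all hup hlo B
    have h1 := hta.inv.mul hB'
    rw [inv_mul_cancel] at h1
    have huP : t⁻¹ * s ∈ h.DD := mul_mem (inv_mem (hTD ht)) (h.W_le_DD hg hs)
    have huL : t⁻¹ * s ∈ centralizer (L : Set G) := by
      rw [mem_centralizer_iff]
      intro l hl
      obtain ⟨x, rfl⟩ := (h.M.mem_iff l).1 hl
      have h2 := h1 x
      rw [NatPair.ap_one, mul_inv_eq_iff_eq_mul] at h2
      exact h2.symm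
    have h3 := h.cent_of huP.1 huL hy (huP.2 y hy)
    have h4 : t * y * t⁻¹ = y := by
      rw [mem_centralizer_iff.1 hyT t ht, mul_inv_cancel_right]
    calc s * y * s⁻¹ = t * (t⁻¹ * s * y * (t⁻¹ * s)⁻¹) * t⁻¹ := by group
      _ = y := by rw [h3, h4]
  -- `C_L(T) = 1`
  have hLT : ∀ l ∈ L, l ∈ centralizer (T : Set G) → l = 1 := by
    intro l hl hlT
    obtain ⟨x, rfl⟩ := (h.M.mem_iff l).1 hl
    obtain ⟨t1, ht1, ha1⟩ := hup 1
    obtain ⟨t2, ht2, ha2⟩ := hlo 1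
    have h1 := ha1 x
    have h2 := ha2 x
    rw [mem_centralizer_iff.1 hlT t1 ht1, mul_inv_cancel_right] at h1
    rw [mem_centralizer_iff.1 hlT t2 ht2, mul_inv_cancel_right] at h2
    have h3 := congrFun (h.M.e_inj h1) 0
    have h4 := congrFun (h.M.e_inj h2) 1
    rw [ap_zero', up_00, up_01] at h3
    rw [ap_one', lo_10, lo_11] at h4
    have h5 : x 1 = 0 := by simpa using h3
    have h6 : x 0 = 0 := by simpa using h4
    rw [← h.M.e_zero]
    congr 1
    exact ext2 h6 h5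
  -- `C₀ = ` the fixed points of all `W^g` in `Y` is trivial
  let C0 : Subgroup G := Y ⊓ centralizer ((⨆ g : P, MulAut.conj (g : G) • WW V F : Subgroup G) : Set G)
  have hC0T : C0 ≤ centralizer (T : Set G) := by
    refine inf_le_right.trans (centralizer_le ?_)
    refine sup_le ?_ (le_iSup (fun g : P => MulAut.conj (g : G) • WW V F) ⟨p, hp⟩)
    have := le_iSup (fun g : P => MulAut.conj (g : G) • WW V F) (1 : P)
    simpa using this
  have hC0V : C0 ≤ V := inf_le_left.trans inf_le_left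
  have hC0 : C0 ≤ ⊥ := by
    by_contra hne
    have hVS : IsPGroup 2 V := h.hyp.V_isPGroup
    have hC0S : (S : Subgroup G) ≤ normalizer (C0 : Set G) := by
      have hkey : ∀ s ∈ (S : Subgroup G), ∀ y ∈ C0, s * y * s⁻¹ ∈ C0 := by
        intro s hs y hyy
        obtain ⟨hy, hyc⟩ := mem_inf.1 hyy
        refine mem_inf.2 ⟨h.cj_mem_Y (h.SP hs) hy, ?_⟩
        rw [mem_centralizer_iff] at hyc ⊢
        have hle : (⨆ g : P, MulAut.conj (g : G) • WW V F) ≤ centralizer {s * y * s⁻¹} := by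
          refine iSup_le fun g => ?_
          intro t ht
          rw [mem_centralizer_singleton_iff]
          have ht' : s⁻¹ * t * s ∈ MulAut.conj (s⁻¹ * (g : G)) • WW V F := by
            rw [mem_cj] at ht ⊢
            have e : (s⁻¹ * (g : G))⁻¹ * (s⁻¹ * t * s) * (s⁻¹ * g) = (g : G)⁻¹ * t * g := by group
            rwa [e]
          have h1 := hyc (s⁻¹ * t * s) (le_iSup (fun g : P => MulAut.conj (g : G) • WW V F)
            ⟨s⁻¹ * g, mul_mem (inv_mem (h.SP hs)) g.2⟩ ht')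
          have h2 := congrArg (fun z => s * z * s⁻¹) h1
          have h3 : t * (s * y * s⁻¹) = s * y * s⁻¹ * t := by simpa [mul_assoc] using h2
          first | exact h3 | exact h3.symm
        intro t ht
        have h4 := mem_centralizer_singleton_iff.1 (hle ht)
        first | exact h4 | exact h4.symm
      intro s hs
      rw [mem_normalizer_iff]
      refine fun y => ⟨hkey s hs y, fun h1 => ?_⟩
      have := hkey s⁻¹ (inv_mem hs) _ h1
      have e : s⁻¹ * (s * y * s⁻¹) * s⁻¹⁻¹ = y := by group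
      rwa [e] at this
    have hC0S' : C0 ≤ (S : Subgroup G) := by
      have : Fact (Nat.Prime 2) := ⟨Nat.prime_two⟩
      have h1 : IsPGroup 2 ((S : Subgroup G) ⊔ C0 : Subgroup G) :=
        S.isPGroup'.to_sup_of_normal_right' (hVS.to_le hC0V) hC0S
      have h2 := S.is_maximal' h1 le_sup_left
      rw [← h2]
      exact le_sup_right
    obtain ⟨y, hy, hy1, hys⟩ := NO3S.OneLine.exists_fixed (M := ⊥) S.isPGroup' hC0S' hC0S hne
    have hyL : y ∈ L := by
      apply hz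
      refine mem_inf.2 ⟨hC0V hy, ?_⟩
      rw [mem_centralizer_iff]
      intro s hs
      have := hys s hs
      rw [mem_bot, mul_inv_eq_one, mul_inv_eq_iff_eq_mul] at this
      exact this
    exact hy1 (mem_bot.2 (hLT y hyL (hC0T hy)))
  -- every `y ∈ Y` is in `L C_Y(T)`
  intro y hy
  have hLn : L ≤ normalizer (F : Set G) := (h.LV.trans h.hyp.V_le_X).trans (centralizer_le_normalizer _)
  have dec : ∀ z ∈ Y, ∃ l ∈ L, ∃ f ∈ F, z = l * f := by
    intro z hz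
    have h1 := h.Y_le hz
    rw [← SetLike.mem_coe, coe_mul_of_left_le_normalizer_right L F hLn] at h1
    obtain ⟨l, hl, f, hf, rfl⟩ := h1
    exact ⟨l, hl, f, hf, rfl⟩
  obtain ⟨l1, hl1, f1, hf1, e1⟩ := dec y hy
  have hf1Y : f1 ∈ Y := by
    have : f1 = l1⁻¹ * y := by rw [e1]; group
    rw [this]
    exact mul_mem (inv_mem (h.L_le_Y hl1)) hy
  obtain ⟨l2, hl2, f2, hf2, e2⟩ := dec (p⁻¹ * f1 * p) (by
    have := h.cj_mem_Y (inv_mem hp) hf1Y
    rwa [inv_inv] at this)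
  obtain ⟨x, rfl⟩ := (h.M.mem_iff l2).1 hl2
  -- `f1 = (p e(x) p⁻¹) (p f2 p⁻¹)`
  have e3 : f1 = p * h.M.e x * p⁻¹ * (p * f2 * p⁻¹) := by
    have : f1 = p * (p⁻¹ * f1 * p) * p⁻¹ := by group
    rw [this, e2]
    group
  have hpx : ∀ x, p * h.M.e x * p⁻¹ = h.M.e (ap (wm 1 one_ne_zero) x) := hpa
  have e4 : h.M.e x = h.M.e ![0, x 1] * h.M.e ![x 0, 0] := by
    rw [← h.M.e_add]
    congr 1
    apply ext2 <;> simp
  -- `a = p e(0, x₁) p⁻¹ ∈ R`, `b = p e(x₀, 0) p⁻¹ ∈ R^p`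
  have ha : p * h.M.e ![0, x 1] * p⁻¹ ∈ h.M.R := by
    rw [hpx, h.M.e_mem_R, ap_one', wm_10, wm_11]
    simp
  set a := p * h.M.e ![0, x 1] * p⁻¹ with haa
  have haa1 : a * a = 1 := h.hyp.sq' (h.R_le_V ha)
  have hfF : f1 * a ∈ F := mul_mem hf1 (h.R_le_F ha)
  have hfp : f1 * a = p * (h.M.e ![x 0, 0] * f2) * p⁻¹ := by
    have hc : f1 * a = a * f1 := h.hyp.V_comm (h.hyp.F_le_V hf1) (h.R_le_V ha)
    rw [hc, e3, e4]
    calc a * (p * (h.M.e ![0, x 1] * h.M.e ![x 0, 0]) * p⁻¹ * (p * f2 * p⁻¹))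
        = a * a * (p * (h.M.e ![x 0, 0] * f2) * p⁻¹) := by rw [haa]; group
      _ = p * (h.M.e ![x 0, 0] * f2) * p⁻¹ := by rw [haa1, one_mul]
  have hT1 : f1 * a ∈ centralizer (T : Set G) := by
    rw [mem_centralizer_iff]
    have hle : T ≤ centralizer {f1 * a} := by
      refine sup_le ?_ ?_
      · intro w hw
        rw [mem_centralizer_singleton_iff]
        have := mem_centralizer_iff.1 (h.F_le_CW hfF) w hw
        first | exact this | exact this.symm
      · intro w hw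
        rw [mem_centralizer_singleton_iff, hfp]
        have hF' : h.M.e ![x 0, 0] * f2 ∈ F := mul_mem (h.R_le_F ⟨x 0, rfl⟩) hf2
        have h1 := mem_centralizer_iff.1 (h.F_le_CW hF') _ (mem_cj.1 hw)
        have h2 := congrArg (fun z => p * z * p⁻¹) h1
        have h3 : w * (p * (h.M.e ![x 0, 0] * f2) * p⁻¹) = p * (h.M.e ![x 0, 0] * f2) * p⁻¹ * w := by
          simpa [mul_assoc] using h2
        first | exact h3 | exact h3.symm
    intro t ht
    have h4 := mem_centralizer_singleton_iff.1 (hle ht)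
    first | exact h4 | exact h4.symm
  have hfaY : f1 * a ∈ Y := mul_mem hf1Y (h.L_le_Y (h.M.R_le ha))
  have hfa : f1 * a = 1 := by
    have h1 : f1 * a ∈ C0 := by
      refine mem_inf.2 ⟨hfaY, ?_⟩
      rw [mem_centralizer_iff]
      have hle : (⨆ g : P, MulAut.conj (g : G) • WW V F) ≤ centralizer {f1 * a} := by
        refine iSup_le fun g t ht => ?_
        rw [mem_centralizer_singleton_iff]
        have := hall _ hfaY hT1 g g.2 t ht
        rw [mul_inv_eq_iff_eq_mul] at this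
        first | exact this | exact this.symm
      intro t ht
      have h4 := mem_centralizer_singleton_iff.1 (hle ht)
      first | exact h4 | exact h4.symm
    exact mem_bot.1 (hC0 h1)
  have hf1L : f1 ∈ L := by
    rw [eq_inv_of_mul_eq_one_left hfa]
    exact inv_mem (h.M.R_le ha)
  rw [e1]
  exact mul_mem hl1 hf1L

end Cfsg.Agent.Omega.BetaFF
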