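import Cfsg.Agent.Omega.NO3S.BetaFF.Zero

/-!
# THEOREM BETA-FF(1) (helper284 #19171): the points `R^p`, `p ∈ P`, of `L`
-/

set_option autoImplicit false

namespace Cfsg.Agent.Omega.BetaFF

open Subgroup Cfsg Cfsg.Agent.Omega.NOne.Flat Cfsg.Agent.Omega.NO3S.Fld
open Cfsg.Agent.Omega.NOne.NearFF (c c_def)
open Cfsg.Agent.ZN (o2)
open Cfsg.Agent.Omega.NatPair (ap ap_zero' ap_one' ext2)
open Cfsg.Agent.Lib.SL2Mat
open scoped Pointwise

universe u

/-- `x ∈ H^g ↔ g⁻¹ x g ∈ H` -/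
theorem mem_cj {G : Type u} [Group G] {H : Subgroup G} {g x : G} :
    x ∈ MulAut.conj g • H ↔ g⁻¹ * x * g ∈ H := by
  rw [Subgroup.mem_pointwise_smul_iff_inv_smul_mem, ← map_inv, MulAut.smul_def, MulAut.conj_apply, inv_inv]

theorem cj_mem_cj {G : Type u} [Group G] {H : Subgroup G} {g x : G} (hx : x ∈ H) :
    g * x * g⁻¹ ∈ MulAut.conj g • H := by
  rw [mem_cj]
  have e : g⁻¹ * (g * x * g⁻¹) * g = x := by group
  rwa [e]

theorem card_cj {G : Type u} [Group G] (g : G) (H : Subgroup G) :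
    Nat.card ↥(MulAut.conj g • H) = Nat.card H :=
  Nat.card_congr (Subgroup.equivSMul _ H).toEquiv.symm

namespace Fr

variable {K : Type*} [Field K] {G : Type u} [Group G] [Finite G] {S : Sylow 2 G} {P V F L U : Subgroup G}
  (h : Fr K S P V F L U)
include h

theorem cjL {p : G} (hp : p ∈ P) : MulAut.conj p • L = L := NOne.Flat.conj_eq_of_norm (h.PL hp)

theorem cjV {p : G} (hp : p ∈ P) : MulAut.conj p • V = V := NOne.Flat.conj_eq_of_norm (h.PV hp)

theorem pt_le {p : G} (hp : p ∈ P) : MulAut.conj p • h.M.R ≤ L := by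
  have h1 : MulAut.conj p • h.M.R ≤ MulAut.conj p • L := Subgroup.pointwise_smul_le_pointwise_smul_iff.2 h.M.R_le
  rwa [h.cjL hp] at h1

theorem card_pt (p : G) : Nat.card ↥(MulAut.conj p • h.M.R) = Nat.card K := by
  rw [card_cj, h.M.card_R]

/-- Two different points are disjoint. -/
theorem pt_inf_R {p : G} (hp : p ∈ P) (hne : MulAut.conj p • h.M.R ≠ h.M.R) :
    MulAut.conj p • h.M.R ⊓ h.M.R = ⊥ := by
  rw [eq_bot_iff]
  rintro z ⟨hz, hzR⟩
  rw [mem_bot]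
  by_contra hz1
  apply hne
  -- a root element `t`
  obtain ⟨t, htS, htR, ht⟩ := h.M.exists_full 1
  have htL : t ∉ centralizer (L : Set G) := fun hc => one_ne_zero (ht.mem_centV.1 hc).2
  obtain ⟨B, hB⟩ := h.M.norm p hp t (up 1) (fun x => by
    rw [ht x]
    congr 1
    apply ext2
    · rw [ap_zero', up_00, up_01]; simp
    · rw [ap_one', up_10, up_11]; simp)
  obtain ⟨a, rfl⟩ := hzR
  have ha : a ≠ 0 := by
    rintro rfl
    apply hz1
    rw [← h.M.e_zero]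
    congr 1
    apply ext2 <;> simp
  -- `z` commutes with `t^p`
  have hzt : p * t * p⁻¹ * h.M.e ![a, 0] * (p * t * p⁻¹)⁻¹ = h.M.e ![a, 0] := by
    have h1 := mem_centralizer_iff.1 htR _ (mem_cj.1 hz)
    have h2 := congrArg (fun s => p * s * p⁻¹) h1
    have h3 : h.M.e ![a, 0] * (p * t * p⁻¹) = p * t * p⁻¹ * h.M.e ![a, 0] := by
      simpa [mul_assoc] using h2
    rw [← h3, mul_inv_cancel_right]
  have h4 := h.M.e_inj ((hB _).symm.trans hzt)
  have h5 := congrFun h4 0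
  have h6 := congrFun h4 1
  rw [ap_zero'] at h5
  rw [ap_one'] at h6
  simp only [Matrix.cons_val_zero, Matrix.cons_val_one, mul_zero, add_zero] at h5 h6
  have hB0 : ent B 0 0 = 1 := by
    have : ent B 0 0 * a = 1 * a := by rw [h5, one_mul]
    exact mul_right_cancel₀ ha this
  have hB1 : ent B 1 0 = 0 := (mul_eq_zero.1 h6).resolve_right ha
  -- so `t^p` centralises `R`
  have hle : h.M.R ≤ MulAut.conj p • h.M.R := by
    rintro _ ⟨b, rfl⟩
    have h7 : p * t * p⁻¹ * h.M.e ![b, 0] * (p * t * p⁻¹)⁻¹ = h.M.e ![b, 0] := by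
      rw [hB]
      congr 1
      apply ext2
      · rw [ap_zero', hB0]; simp
      · rw [ap_one', hB1]; simp
    rw [mem_cj]
    refine h.M.fix htS htR htL ?_ ?_
    · rw [← mem_cj, h.cjL hp]
      exact h.M.e_mem _
    · rw [mul_inv_eq_iff_eq_mul] at h7
      have h2 := congrArg (fun s => p⁻¹ * s * p) h7
      simpa [mul_assoc] using h2
  symm
  refine Subgroup.eq_of_le_of_card_ge hle ?_
  rw [h.card_pt, h.M.card_R]

theorem pt_inf_F {p : G} (hp : p ∈ P) (hne : MulAut.conj p • h.M.R ≠ h.M.R) :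
    MulAut.conj p • h.M.R ⊓ F = ⊥ := by
  rw [eq_bot_iff, ← h.pt_inf_R hp hne]
  exact le_inf inf_le_left ((inf_le_inf_right _ (h.pt_le hp)).trans h.L_inf_F.le)

/-- `s ∈ W - C(L)` moves every point `≠ R`, to a disjoint one. -/
theorem pt_move {p s : G} (hp : p ∈ P) (hne : MulAut.conj p • h.M.R ≠ h.M.R) (hs : s ∈ WW V F)
    (hsL : s ∉ centralizer (L : Set G)) {y : G} (hy : y ∈ MulAut.conj p • h.M.R)
    (hy' : s * y * s⁻¹ ∈ MulAut.conj p • h.M.R) : y = 1 := by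
  have h1 : s * y * s⁻¹ * y⁻¹ ∈ MulAut.conj p • h.M.R ⊓ h.M.R :=
    ⟨Subgroup.mul_mem _ hy' (Subgroup.inv_mem _ hy), h.M.comm_R (h.WS hs) (h.WR hs) (h.pt_le hp hy)⟩
  rw [h.pt_inf_R hp hne, mem_bot, mul_inv_eq_one, mul_inv_eq_iff_eq_mul] at h1
  have h2 := h.M.fix (h.WS hs) (h.WR hs) hsL (h.pt_le hp hy) h1
  have h3 : y ∈ MulAut.conj p • h.M.R ⊓ h.M.R := ⟨hy, h2⟩
  rwa [h.pt_inf_R hp hne, mem_bot] at h3

end Fr

end Cfsg.Agent.Omega.BetaFF
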