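import Cfsg.Agent.Omega.NO3S.Fld.UniqLevBlk

/-!
# BETA-FF (#19171 (4)): full support

`P ∈ P*(S)`, `V = V_P`, `D = C_V(O²(P))`, `A ≤ S` an offender on `V` (module form), `v ∈ V` such that some
`z ∈ Ω₁(Z(S)) - D` is a commutator `[a, v]`, `a ∈ A`.  Then all blocks of `V / D` occur in `A` and in `v`:

* `FS S P A V₁ v` : `C_V(A) = V₁`, `V₁ = [v, A] D`, `[a, v] ∈ D` only for `a ∈ C(V)`, `|C_S(V₁) : O₂(P)| |D| ≤ |V₁|`;
* `exists_fs` : it holds (natural modules: the product of the lines; even-subset modules: the span of the pairs).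
-/

set_option autoImplicit false
set_option linter.unusedSectionVars false
set_option linter.unusedVariables false

namespace Cfsg.Agent.Omega.NO3S.BetaFF

open Subgroup Cfsg Cfsg.Agent.ZN Cfsg.Agent.ZN.ChoiceBase Cfsg.Agent.Omega.MinPar
open Cfsg.Agent.ZN.ChoiceSit (Syl o2_le_syl)
open Cfsg.Agent.Omega.SQ1
open Cfsg.Agent.MinSimple.VModule (zc_le zc_le_zl zl_le le_o2 le_normalizer_zl le_normalizer_o2)
open Cfsg.Agent.Omega.SQ1.FFOne Cfsg.Agent.Omega.SQ1.FFSym Cfsg.Agent.Lib.SL2Mat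
open Cfsg.Agent.Omega.FFThm (NatK SymK NatKM SymKM OffM NoOverM ActsSym ActsSL StmtM)
open Cfsg.Agent.Omega.FrameFF (cv)
open Cfsg.Agent.Omega.NatPair (ap ap_zero' ap_one' ap_one ap_mul ap_add ap_smul ext2 ap_inv_ap ap_inj)
open Cfsg.Agent.Omega.NO3S.OneLine (NatC natC_of card_of_hom syl_of minH card_mul_relIndex cyc_T' disj' sy_of)
open Cfsg.Agent.Omega.NO3S.Fld

universe u

variable {G : Type u} [Group G]

/-- **Full support.** -/
structure FS (S P A V1 : Subgroup G) (v : G) : Prop where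
  le : V1 ≤ zl S P
  DV1 : cv S P ≤ V1
  cA : A ≤ centralizer (V1 : Set G)
  cV : zl S P ⊓ centralizer (A : Set G) ≤ V1
  mem : ∀ a ∈ A, a * v * a⁻¹ * v⁻¹ ∈ V1
  dec : ∀ w ∈ V1, ∃ a ∈ A, w * (a * v * a⁻¹ * v⁻¹) ∈ cv S P
  ker : ∀ a ∈ A, a * v * a⁻¹ * v⁻¹ ∈ cv S P → a ∈ centralizer (zl S P : Set G)
  cen : (o2 P).relIndex (S ⊓ centralizer (V1 : Set G)) * Nat.card (cv S P) ≤ Nat.card V1
  no : NoOverM (zl S P) P

/-! ### Natural modules -/

section nat

variable {F : Type} [Field F] {T H V D : Subgroup G} {k : ℕ} (M : NatC F T H V D k)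

/-- a fixed vector of `T` has full support -/
theorem fix_ne {z : G} (hzV : z ∈ V) (hz : z ∉ D) (hzT : ∀ t ∈ T, t * z = z * t) (j : Fin k) :
    M.nat.e z j ≠ 0 := by
  intro h0
  apply hz
  rw [← M.nat.ker z hzV]
  funext i
  obtain ⟨t, ht, h1⟩ := M.nat.trans i j
  have h2 := h1 z hzV
  rw [hzT t ht, mul_inv_cancel_right] at h2
  exact h2.1 h0

/-- the coordinates of `[a, v]` -/
theorem e_comm {a v : G} (hv : v ∈ V) (ha : a ∈ H) {b : Fin k → F}
    (h : ActsSL M.nat.e V D a fun i => up (b i)) (i : Fin k) :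
    M.nat.e (a * v * a⁻¹ * v⁻¹) i = ![b i * M.nat.e v i 1, 0] := by
  rw [M.map_div (M.Vn a ha v hv) hv, Pi.sub_apply, h.1 v hv i]
  refine ext2 ?_ ?_
  · rw [Pi.sub_apply, ap_zero', up_00, up_01]
    simp
  · rw [Pi.sub_apply, ap_one', up_10, up_11]
    simp

theorem nat_fs [Finite G] [Finite F] [CharP F 2] (hm : MinH H T) (hcV : T ⊓ centralizer (V : Set G) ≤ o2 H)
    {A : Subgroup G} (hA : A ≤ T) (hoff : OffM V A) {I : Set (Fin k)}
    (h4 : ∀ a ∈ A, ∃ b : Fin k → F, (∀ i, i ∉ I → b i = 0) ∧ ActsSL M.nat.e V D a fun i => up (b i))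
    (h5 : ∀ b : Fin k → F, (∀ i, i ∉ I → b i = 0) → ∃ a ∈ A, ActsSL M.nat.e V D a fun i => up (b i))
    {v z a₀ : G} (hv : v ∈ V) (hz : z ∉ D) (hzT : ∀ t ∈ T, t * z = z * t) (ha₀ : a₀ ∈ A)
    (haz : a₀ * v * a₀⁻¹ * v⁻¹ = z) :
    (∀ i, M.nat.e v i 1 ≠ 0) ∧ ∀ i, i ∈ I := by
  have hTH := hm.syl.1
  have hzV : z ∈ V := by
    rw [← haz]
    exact mul_mem (M.Vn a₀ (hTH (hA ha₀)) v hv) (inv_mem hv)
  obtain ⟨b, hb, hbA⟩ := h4 a₀ ha₀
  have key : ∀ i, b i ≠ 0 ∧ M.nat.e v i 1 ≠ 0 := by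
    intro i
    have h1 := e_comm M hv (hTH (hA ha₀)) hbA i
    rw [haz] at h1
    have h2 := fix_ne M hzV hz hzT i
    constructor
    · intro h3
      apply h2
      rw [h1, h3, zero_mul]
      exact ext2 rfl rfl
    · intro h3
      apply h2
      rw [h1, h3, mul_zero]
      exact ext2 rfl rfl
  refine ⟨fun i => (key i).2, fun i => ?_⟩
  by_contra hi
  exact (key i).1 (hb i hi)

end nat

/-! ### Even-subset modules -/

section sym

variable {T H V D : Subgroup G} {k n : ℕ} {o : Fin n} {e : G → Fin k → Fin n → ZMod 2}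
  {ι : Type} {J : ι → Fin k} {X Y : ι → Fin n}

theorem z2_eq {a : ZMod 2} (h : a ≠ 0) : a = 1 := by
  revert a; decide

/-- a fixed vector of `T` is `1` at all points `≠ o` -/
theorem fix_sym [Finite G] (h : SyC T H V D o e) (c : ChM T H V D e J X Y) {z : G} (hzV : z ∈ V) (hz : z ∉ D)
    (hzT : ∀ t ∈ T, t * z = z * t) {j : Fin k} {x : Fin n} (hx : x ≠ o) : e z j x = 1 := by
  have hfix : ∀ t ∈ T, t * z * t⁻¹ = z := fun t ht => by rw [hzT t ht, mul_inv_cancel_right]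
  obtain ⟨l, hl⟩ : ∃ l, ¬ (e z (J l) (X l) = 0 ∧ e z (J l) (Y l) = 0) := by
    by_contra hcon
    push Not at hcon
    exact hz (mem_D_ofM h c hzV hcon)
  obtain ⟨j₀, x₀, hx₀, h1⟩ : ∃ j₀ x₀, x₀ ≠ o ∧ e z j₀ x₀ = 1 := by
    by_cases h2 : e z (J l) (X l) = 0
    · refine ⟨J l, Y l, (c.tr l).symm.ne h, z2_eq fun h3 => hl ⟨h2, h3⟩⟩
    · exact ⟨J l, X l, (c.tr l).ne h, z2_eq h2⟩
  obtain ⟨t, ht, σ, τ, hta, hσ⟩ := h.trans j₀ j
  have h2 := hta z hzV j₀ x₀
  rw [hfix t ht, hσ, h1] at h2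
  have h3 : τ j₀ x₀ ≠ o := by
    intro h4
    apply hx₀
    apply (τ j₀).injective
    rw [h4, h.fix0 t ht σ τ hta]
  obtain ⟨s, hs, π, hπ, hπx⟩ := h.cyc j _ _ h3 hx
  have h4 := hπ.act z hzV j (τ j₀ x₀)
  rw [hfix s hs, Equiv.Perm.one_apply, Pi.mulSingle_eq_same, hπx, h2] at h4
  exact h4

/-- the coordinates of `[a, v]` -/
theorem e_comm_sym (h : SyC T H V D o e) {a v : G} (hv : v ∈ V) (ha : a ∈ H) {τ : Fin k → Equiv.Perm (Fin n)}
    (hτ : ActsSym e V a 1 τ) (j : Fin k) (x : Fin n) :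
    e (a * v * a⁻¹ * v⁻¹) j (τ j x) = e v j x + e v j (τ j x) := by
  have h1 := hτ v hv j x
  rw [Equiv.Perm.one_apply] at h1
  rw [h.mul _ (h.Vn a ha v hv) _ (inv_mem hv), Pi.add_apply, Pi.add_apply, h1, h.e_inv hv]

/-- what is known on the elements of the offender -/
structure SymA (T H V D A : Subgroup G) (e : G → Fin k → Fin n → ZMod 2) : Prop where
  AT : A ≤ T
  act : ∀ a ∈ A, ∃ τ, Gd H V D e τ a ∧ ∀ i x, τ i x ≠ x → TrM T H V D e i x (τ i x) ∧
    ∃ b ∈ A, Gd H V D e (Function.update 1 i (Equiv.swap x (τ i x))) b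

theorem SymA.pts (h : SyC T H V D o e) (c : ChM T H V D e J X Y) {A : Subgroup G}
    {τ : Fin k → Equiv.Perm (Fin n)} (hτ : ∀ i x, τ i x ≠ x → TrM T H V D e i x (τ i x)) (l : ι) :
    (τ (J l) (X l) = X l ∧ τ (J l) (Y l) = Y l) ∨ (τ (J l) (X l) = Y l ∧ τ (J l) (Y l) = X l) := by
  have hT := c.tr l
  have hkey : ∀ x y : Fin n, TrM T H V D e (J l) x y → τ (J l) x = x ∨ τ (J l) x = y := by
    intro x y hxy
    by_cases hx : τ (J l) x = x
    · exact Or.inl hx
    · exact Or.inr (TrM.disj h hxy (hτ _ _ hx)).symm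
  have h3 := hkey _ _ hT
  have h4 := hkey _ _ hT.symm
  rcases h3 with h3 | h3 <;> rcases h4 with h4 | h4
  · exact Or.inl ⟨h3, h4⟩
  · exact absurd ((τ (J l)).injective (h3.trans h4.symm)) hT.1
  · exact absurd ((τ (J l)).injective (h3.trans h4.symm)) hT.1
  · exact Or.inr ⟨h3, h4⟩

/-- all pairs occur in `v` and in `A` -/
theorem SymA.full [Finite G] (h : SyC T H V D o e) (c : ChM T H V D e J X Y) {A : Subgroup G}
    (hA : SymA T H V D A e) {v z a₀ : G} (hv : v ∈ V) (hz : z ∉ D) (hzT : ∀ t ∈ T, t * z = z * t)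
    (ha₀ : a₀ ∈ A) (haz : a₀ * v * a₀⁻¹ * v⁻¹ = z) :
    (∃ τ, Gd H V D e τ a₀ ∧ ∀ l, τ (J l) (X l) = Y l ∧ τ (J l) (Y l) = X l) ∧
      (∀ l, e v (J l) (X l) + e v (J l) (Y l) = 1) ∧
      ∀ l, ∃ b ∈ A, Gd H V D e (Function.update 1 (J l) (Equiv.swap (X l) (Y l))) b := by
  have ha₀H := h.TH (hA.AT ha₀)
  have hzV : z ∈ V := by
    rw [← haz]
    exact mul_mem (h.Vn a₀ ha₀H v hv) (inv_mem hv)
  obtain ⟨τ, hτ, hτ'⟩ := hA.act a₀ ha₀
  have key : ∀ l, τ (J l) (X l) = Y l ∧ τ (J l) (Y l) = X l := by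
    intro l
    rcases SymA.pts (A := A) h c (fun i x hx => (hτ' i x hx).1) l with h1 | h1
    · exfalso
      have h2 := e_comm_sym h hv ha₀H hτ.act (J l) (X l)
      rw [h1.1, haz, fix_sym h c hzV hz hzT ((c.tr l).ne h), CharTwo.add_self_eq_zero] at h2
      exact one_ne_zero h2
    · exact h1
  refine ⟨⟨τ, hτ, key⟩, fun l => ?_, fun l => ?_⟩
  · have h2 := e_comm_sym h hv ha₀H hτ.act (J l) (X l)
    rw [(key l).1, haz, fix_sym h c hzV hz hzT ((c.tr l).symm.ne h)] at h2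
    exact h2.symm
  · have h1 : τ (J l) (X l) ≠ X l := by
      rw [(key l).1]
      exact (c.tr l).1.symm
    obtain ⟨-, b, hb, h2⟩ := hτ' _ _ h1
    rw [(key l).1] at h2
    exact ⟨b, hb, h2⟩

/-- an element which moves no point `≠ o` centralises `V` -/
theorem SymA.cent [Finite G] (h : SyC T H V D o e) (c : ChM T H V D e J X Y) {a : G}
    {τ : Fin k → Equiv.Perm (Fin n)} (hg : Gd H V D e τ a) (ho : ∀ i, τ i o = o)
    (hτ : ∀ l, τ (J l) (X l) = X l ∧ τ (J l) (Y l) = Y l) : a ∈ centralizer (V : Set G) := by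
  have h1 : τ = 1 := by
    funext j
    ext1 x
    rw [Pi.one_apply, Equiv.Perm.one_apply]
    by_cases hx : x = o
    · rw [hx, ho]
    · obtain ⟨y, hy⟩ := h.cover j hx
      obtain ⟨i, hiJ, -, hi⟩ := c.exists_idx h hy
      rw [← hiJ]
      rcases hi with ⟨hi, -⟩ | ⟨-, hi⟩
      · rw [← hi]; exact (hτ i).1
      · rw [← hi]; exact (hτ i).2
  subst h1
  refine mem_centralizer_iff.2 fun v hv => ?_
  have h2 := h.gd_sim hg h.gd_one v hv
  rw [one_mul, inv_one, mul_one] at h2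
  symm
  calc a * v = (a * v * a⁻¹) * a := by group
    _ = v * a := by rw [h2]

end sym

/-! ### The result -/

variable [Finite G] {S : Sylow 2 G} {P : Subgroup G}

/-- `[a b, v] = [a, v] [b, v]` if `a` centralises `[b, v]` -/
theorem comm_mul {a b v : G} (h : a * (b * v * b⁻¹ * v⁻¹) = b * v * b⁻¹ * v⁻¹ * a) :
    a * b * v * (a * b)⁻¹ * v⁻¹ = b * v * b⁻¹ * v⁻¹ * (a * v * a⁻¹ * v⁻¹) := by
  calc a * b * v * (a * b)⁻¹ * v⁻¹ = a * (b * v * b⁻¹ * v⁻¹) * v * a⁻¹ * v⁻¹ := by group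
    _ = b * v * b⁻¹ * v⁻¹ * a * v * a⁻¹ * v⁻¹ := by rw [h]
    _ = _ := by group

/-- **LEMMA FS (full support).** -/
theorem exists_fs (hFF : StmtM.{u}) (hG : IsCharacteristicTwoType G) (hP : IsParS (S : Subgroup G) P)
    {A : Subgroup G} (hA : A ≤ (S : Subgroup G)) (hoff : OffM (zl (S : Subgroup G) P) A) {v z a₀ : G}
    (hv : v ∈ zl (S : Subgroup G) P) (hz : z ∈ zc (S : Subgroup G)) (hzD : z ∉ cv (S : Subgroup G) P)
    (ha₀ : a₀ ∈ A) (haz : a₀ * v * a₀⁻¹ * v⁻¹ = z) :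
    ∃ V1, FS (S : Subgroup G) P A V1 v := by
  have hsyl := syl_of hP
  have hch := hP.isLoc.char2 S hG
  have hm := minH hG hP
  have hcV := (IsParS.inf_centralizer S hG hP).le
  have hzT : ∀ t ∈ (S : Subgroup G), t * z = z * t := (mem_zc.1 hz).2.2
  have hTH := hm.syl.1
  obtain ⟨hno, hcon⟩ := hFF G (S : Subgroup G) P hsyl hP.toIsMinPar hch ⟨A, hA.trans hsyl.1, hoff⟩
  rcases hcon with ⟨F, _, _, _, k, hk, ⟨M⟩⟩ | ⟨k, m, hk, hm2, ⟨M⟩⟩
  · let N := natC_of hm hk M.toNatK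
    obtain ⟨I, h4, h5⟩ := M.offM A hA hoff
    obtain ⟨hv1, hI⟩ := nat_fs N hm hcV hA hoff h4 h5 hv hzD hzT ha₀ haz
    have hcA : A ≤ centralizer (lineM N : Set G) := fun b hb => mem_centralizer_iff.2 fun v hv =>
      (N.cent_line hm hA hoff.le h4 h5 hv.1 hv.2 hb).symm
    refine ⟨lineM N, fun v hv => hv.1, D_le_lineM N, hcA, ?_, ?_, ?_, ?_, ?_, hno⟩
    · rintro w ⟨hw, hwA⟩
      refine ⟨hw, fun i => ?_⟩
      obtain ⟨a, ha, h6⟩ := h5 (fun _ => 1) fun i hi => absurd (hI i) hi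
      have h7 := e_comm N hw (hTH (hA ha)) h6 i
      have h8 : a * w * a⁻¹ * w⁻¹ = 1 := by
        rw [mem_centralizer_iff.1 hwA a ha]; group
      rw [h8, N.map_one] at h7
      have h9 := congrFun h7 0
      simpa using h9.symm
    · intro a ha
      obtain ⟨b, hb, h6⟩ := h4 a ha
      refine ⟨mul_mem (N.Vn a (hTH (hA ha)) v hv) (inv_mem hv), fun i => ?_⟩
      rw [e_comm N hv (hTH (hA ha)) h6 i]
      simp
    · intro w hw
      obtain ⟨a, ha, h6⟩ := h5 (fun i => N.nat.e w i 0 / N.nat.e v i 1) fun i hi => absurd (hI i) hi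
      refine ⟨a, ha, ?_⟩
      have h7 : a * v * a⁻¹ * v⁻¹ ∈ zl (S : Subgroup G) P :=
        mul_mem (N.Vn a (hTH (hA ha)) v hv) (inv_mem hv)
      rw [← N.nat.ker _ (mul_mem hw.1 h7), N.nat.mul w hw.1 _ h7]
      funext i
      rw [Pi.add_apply, e_comm N hv (hTH (hA ha)) h6 i]
      refine ext2 ?_ ?_
      · rw [Pi.add_apply]
        simp only [Matrix.cons_val_zero]
        rw [div_mul_cancel₀ _ (hv1 i), CharTwo.add_self_eq_zero]
        rfl
      · rw [Pi.add_apply]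
        show N.nat.e w i 1 + 0 = 0
        rw [add_zero]
        exact hw.2 i
    · intro a ha hD
      obtain ⟨b, hb, h6⟩ := h4 a ha
      have h7 := (N.nat.ker _ (N.DV hD)).2 hD
      have h8 : b = 0 := by
        funext i
        have h9 := e_comm N hv (hTH (hA ha)) h6 i
        rw [h7] at h9
        have h10 := congrFun h9 0
        simp only [Pi.zero_apply, Matrix.cons_val_zero] at h10
        exact (mul_eq_zero.1 h10.symm).resolve_right (hv1 i)
      subst h8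
      refine mem_centralizer_iff.2 fun w hw => (N.cent_of_stab hm ⟨hTH (hA ha), fun u hu i => ?_, h6.2⟩ hw).symm
      have h9 : _ = ap (up ((0 : Fin k → F) i)) _ := h6.1 u hu i
      have h10 : up ((0 : Fin k → F) i) = 1 := up_zero
      rw [h10] at h9
      exact h9
    · have h1 := natCenM N hm hcV
      rw [natCard1M N, mul_comm]
      exact Nat.mul_le_mul_left _ h1
  · have hs := sy_of hm M.toSymK hk (by omega) SQ1.FFOf.cv_le SQ1.FFOf.cv_norm
    have hswap : ∀ B : Subgroup G, B ≤ (S : Subgroup G) → OffM (zl (S : Subgroup G) P) B → ∀ b ∈ B,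
        ∃ τ, Gd P (zl (S : Subgroup G) P) (cv (S : Subgroup G) P) M.e τ b ∧ ∀ i x, τ i x ≠ x →
          TrM (S : Subgroup G) P (zl (S : Subgroup G) P) (cv (S : Subgroup G) P) M.e i x (τ i x) ∧
          ∃ b' ∈ B, Gd P (zl (S : Subgroup G) P) (cv (S : Subgroup G) P) M.e
            (Function.update 1 i (Equiv.swap x (τ i x))) b' := by
      intro B hB hB' b hb
      obtain ⟨hD, h2⟩ := M.offM B hB hB'
      obtain ⟨τ, hτ, hτ'⟩ := h2 b hb
      refine ⟨τ, ⟨hTH (hB hb), hD b hb, hτ⟩, fun i x hx => ?_⟩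
      obtain ⟨-, b', hb', hb''⟩ := hτ' i x hx
      exact ⟨⟨Ne.symm hx, b', hB hb', hTH (hB hb'), hD b' hb', hb''⟩, b', hb', hTH (hB hb'), hD b' hb', hb''⟩
    have hSA : SymA (S : Subgroup G) P (zl (S : Subgroup G) P) (cv (S : Subgroup G) P) A M.e :=
      ⟨hA, hswap A hA hoff⟩
    have h : SyC (S : Subgroup G) P (zl (S : Subgroup G) P) (cv (S : Subgroup G) P) (0 : Fin (2 ^ m + 1)) M.e := by
      refine ⟨hs, hTH, hm.syl.2.1, M.trans, M.fix0, fun j x y hx hy => cyc_T' hm M.toSymK hs (by omega) j hx hy, ?_⟩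
      by_contra hcon
      push Not at hcon
      apply hoff.ne
      intro a ha
      obtain ⟨τ, hτ, hτ'⟩ := hswap A hA hoff a ha
      have h1 : τ = 1 := by
        funext i
        ext x
        by_contra hx
        have hx' : τ i x ≠ x := fun e => hx (by rw [e]; rfl)
        exact hcon i x (τ i x) (hτ' i x hx').1
      subst h1
      refine mem_centralizer_iff.2 fun v hv => ?_
      have h2 := hs.gd_sim hτ hs.gd_one v hv
      symm
      calc a * v = (a * v * a⁻¹) * a := by group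
        _ = v * a := by rw [h2]; group
    obtain ⟨ι, J, X, Y, _, c⟩ := h.exists_ch
    obtain ⟨⟨τ₀, hτ₀, hτ₀'⟩, hvl, hbl⟩ := hSA.full h c hv hzD hzT ha₀ haz
    have hV1 := uM_le_V h (J := J) (X := X) (Y := Y)
    have hcA : A ≤ centralizer (uM P (zl (S : Subgroup G) P) (cv (S : Subgroup G) P) M.e J X Y : Set G) := by
      intro b hb
      obtain ⟨τ, hτ, hτ'⟩ := hSA.act b hb
      exact symOffM h c hτ.mem hτ.cd hτ.act fun i x hx => (hτ' i x hx).1
    have hmem : ∀ a ∈ A, a * v * a⁻¹ * v⁻¹ ∈ uM P (zl (S : Subgroup G) P) (cv (S : Subgroup G) P) M.e J X Y := by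
      intro a ha
      have haH := hTH (hA ha)
      obtain ⟨τ, hτ, hτ'⟩ := hSA.act a ha
      refine mem_uM_of h c (mul_mem (h.Vn a haH v hv) (inv_mem hv)) fun l => ?_
      have h1 := e_comm_sym h hv haH hτ.act (J l) (X l)
      have h2 := e_comm_sym h hv haH hτ.act (J l) (Y l)
      rcases SymA.pts (A := A) h c (fun i x hx => (hτ' i x hx).1) l with ⟨h3, h4⟩ | ⟨h3, h4⟩
      · rw [h3] at h1
        rw [h4] at h2
        rw [h1, h2, CharTwo.add_self_eq_zero, CharTwo.add_self_eq_zero]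
      · rw [h3] at h1
        rw [h4] at h2
        rw [h1, h2, add_comm]
    refine ⟨uM P (zl (S : Subgroup G) P) (cv (S : Subgroup G) P) M.e J X Y, hV1, D_le_uM, hcA, ?_, hmem, ?_, ?_, ?_,
      hno⟩
    · rintro w ⟨hw, hwA⟩
      refine mem_uM_of h c hw fun l => ?_
      have h1 := e_comm_sym h hw (hTH (hA ha₀)) hτ₀.act (J l) (X l)
      have h8 : a₀ * w * a₀⁻¹ * w⁻¹ = 1 := by
        rw [mem_centralizer_iff.1 hwA a₀ ha₀]; group
      rw [h8, (hτ₀' l).1, h.e_one] at h1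
      exact (CharTwo.add_eq_zero.1 h1.symm)
    · -- `V₁ = D [v, A]`
      let K : Subgroup G :=
        { carrier := {w | w ∈ zl (S : Subgroup G) P ∧ ∃ a ∈ A, w * (a * v * a⁻¹ * v⁻¹) ∈ cv (S : Subgroup G) P}
          mul_mem' := by
            rintro x y ⟨hx, a, ha, hxa⟩ ⟨hy, b, hb, hyb⟩
            refine ⟨mul_mem hx hy, a * b, mul_mem ha hb, ?_⟩
            have h1 := comm_mul (a := a) (b := b) (v := v) (mem_centralizer_iff.1 (hcA ha) _ (hmem b hb)).symm
            rw [h1]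
            have h2 := hV1 (hmem a ha)
            have h3 := hV1 (hmem b hb)
            have e1 : x * y * (b * v * b⁻¹ * v⁻¹ * (a * v * a⁻¹ * v⁻¹)) =
                x * (a * v * a⁻¹ * v⁻¹) * (y * (b * v * b⁻¹ * v⁻¹)) := by
              have c1 := h.comm _ (mul_mem hy h3) _ h2
              calc x * y * (b * v * b⁻¹ * v⁻¹ * (a * v * a⁻¹ * v⁻¹))
                  = x * (y * (b * v * b⁻¹ * v⁻¹) * (a * v * a⁻¹ * v⁻¹)) := by group
                _ = x * ((a * v * a⁻¹ * v⁻¹) * (y * (b * v * b⁻¹ * v⁻¹))) := by rw [c1]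
                _ = _ := by group
            rw [e1]
            exact mul_mem hxa hyb
          one_mem' := ⟨one_mem _, 1, one_mem _, by simp⟩
          inv_mem' := by
            rintro x ⟨hx, a, ha, hxa⟩
            have h1 : x⁻¹ = x := inv_eq_of_mul_eq_one_left (by rw [← pow_two]; exact h.sq x hx)
            rw [h1]
            exact ⟨hx, a, ha, hxa⟩ }
      have hle : uM P (zl (S : Subgroup G) P) (cv (S : Subgroup G) P) M.e J X Y ≤ K := by
        refine uM_le (fun d hd => ⟨h.DV hd, 1, one_mem _, by simpa using hd⟩) fun l => ?_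
        obtain ⟨b, hb, hbg⟩ := hbl l
        refine ⟨h.u_mem _ _ _, b, hb, ?_⟩
        have h7 := hV1 (hmem b hb)
        refine mem_D_ofM h c (mul_mem (h.u_mem _ _ _) h7) fun l' => ?_
        rw [h.mul _ (h.u_mem _ _ _) _ h7, Pi.add_apply, Pi.add_apply, Pi.add_apply]
        classical
        obtain ⟨h1, h2⟩ := e_u_valM h c l l'
        rw [h1, h2]
        have h3 := e_comm_sym h hv hbg.mem hbg.act (J l') (X l')
        have h4 := e_comm_sym h hv hbg.mem hbg.act (J l') (Y l')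
        by_cases hl : l' = l
        · subst hl
          rw [if_pos rfl]
          rw [Function.update_self, Equiv.swap_apply_left, hvl l'] at h3
          rw [Function.update_self, Equiv.swap_apply_right, add_comm, hvl l'] at h4
          rw [h3, h4]
          exact ⟨CharTwo.add_self_eq_zero _, CharTwo.add_self_eq_zero _⟩
        · rw [if_neg hl]
          have h5 : (Function.update 1 (J l) (Equiv.swap (X l) (Y l)) : Fin k → Equiv.Perm (Fin (2 ^ m + 1))) (J l')
              (X l') = X l' ∧ (Function.update 1 (J l) (Equiv.swap (X l) (Y l)) : Fin k → Equiv.Perm (Fin (2 ^ m + 1)))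
              (J l') (Y l') = Y l' := by
            by_cases hJ : J l' = J l
            · obtain ⟨a1, a2, a3, a4⟩ := c.cases h hl hJ
              rw [hJ, Function.update_self]
              exact ⟨Equiv.swap_apply_of_ne_of_ne a1 a2, Equiv.swap_apply_of_ne_of_ne a3 a4⟩
            · rw [Function.update_of_ne hJ]
              exact ⟨rfl, rfl⟩
          rw [h5.1, CharTwo.add_self_eq_zero] at h3
          rw [h5.2, CharTwo.add_self_eq_zero] at h4
          rw [h3, h4, add_zero]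
          exact ⟨rfl, rfl⟩
      exact fun w hw => (hle hw).2
    · intro a ha hD
      obtain ⟨τ, hτ, hτ'⟩ := hSA.act a ha
      have h7 := (hs.ker _ (h.DV hD)).2 hD
      refine SymA.cent h c hτ (fun i => h.fix0 a (hA ha) 1 τ hτ.act i) fun l => ?_
      rcases SymA.pts (A := A) h c (fun i x hx => (hτ' i x hx).1) l with h3 | h3
      · exact h3
      · exfalso
        have h1 := e_comm_sym h hv hτ.mem hτ.act (J l) (X l)
        rw [h3.1, hvl l, h7] at h1
        exact zero_ne_one h1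
    · have h1 := symCenM h c hcV
      rw [symCard1M h c, mul_comm]
      exact Nat.mul_le_mul_left _ h1

end Cfsg.Agent.Omega.NO3S.BetaFF
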