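import Cfsg.Agent.Omega.NO3S.BetaFF.Pts
import Cfsg.Agent.Omega.NOne.Flat.Nine

/-!
# THEOREM BETA-FF(1) (helper284 #19171), section (3): the bad facts

`BadAt h w p` : `w ∈ V - E`, `[w, B₁] ≤ R^p ≠ R`, `p ∈ P`.  Then, with `r = |K|`, `x ∈ C_G(F)` bad:
`V ∩ U ≤ L F`, `|E : F| = |W : N| = r²`, `|B₁ : N| = r`, `B₁ = L^x N`, `[w, L^x] = R^p`, `C_V(L^x) = L F`,
`[E, B₁] ≤ R`, `|V : E| ≤ r`; and `BadAt.of` : (f).
-/

set_option autoImplicit false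

namespace Cfsg.Agent.Omega.BetaFF

open Subgroup Cfsg Cfsg.Agent.Omega.NOne.Flat Cfsg.Agent.Omega.NO3S.Fld
open Cfsg.Agent.Omega.NOne.NearFF (c c_def)
open Cfsg.Agent.ZN (o2)
open scoped Pointwise

universe u

variable {K : Type*} [Field K] {G : Type u} [Group G] [Finite G] {S : Sylow 2 G} {P V F L U : Subgroup G}

/-- **Bad**: `w ∈ V - E`, `[w, B₁] ≤ R^p ≠ R`. -/
structure BadAt (h : Fr K S P V F L U) (w p : G) : Prop where
  wV : w ∈ V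
  wE : w ∉ EE V F
  pP : p ∈ P
  ne : MulAut.conj p • h.M.R ≠ h.M.R
  com : ∀ b ∈ h.B1, c w b ∈ MulAut.conj p • h.M.R

namespace Fr

variable (h : Fr K S P V F L U)
include h

theorem NN_le_B1 : NN V F ≤ h.B1 := inf_le_inf_left _ (centralizer_le h.L_le_E)

theorem F_relIndex_L : F.relIndex L = Nat.card K := by
  rw [← h.relIndex_R_L, ← inf_relIndex_left L F, h.L_inf_F]

theorem NN_relIndex_conjL {x : G} (hx : x ∈ centralizer (F : Set G)) (hb : BadX V x) :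
    (NN V F).relIndex (MulAut.conj x • L) = Nat.card K := by
  rw [← inf_relIndex_left (MulAut.conj x • L) (NN V F), h.conjL_inf hx hb, ← h.relIndex_R_L]
  have h1 : h.M.R.relIndex (MulAut.conj x • L) = (MulAut.conj x • h.M.R).relIndex (MulAut.conj x • L) := by
    rw [h.conjR hx]
  rw [h1, Subgroup.relIndex_pointwise_smul]

theorem card_le_LF {Y : Subgroup G} (hY : Y ≤ V) (hYF : F.relIndex Y ≤ Nat.card K) (hLY : L ≤ Y) : Y ≤ L ⊔ F := by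
  have hn : Y ≤ normalizer (F : Set G) := (hY.trans h.hyp.V_le_X).trans (centralizer_le_normalizer _)
  have h1 := NOne.Flat.Off.card_sup_mul_inf hn
  have h2 := card_mul_relIndex' (inf_le_left : Y ⊓ F ≤ Y)
  rw [inf_relIndex_left] at h2
  have h3 : Nat.card ↥(Y ⊔ F) ≤ Nat.card ↥(L ⊔ F) := by
    rw [h.card_LF]
    have h4 : 0 < Nat.card ↥(Y ⊓ F) := Nat.card_pos
    rw [← h2] at h1
    have h5 : Nat.card ↥(Y ⊔ F) = F.relIndex Y * Nat.card F := by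
      refine Nat.eq_of_mul_eq_mul_right h4 ?_
      rw [h1]
      ring
    rw [h5]
    exact Nat.mul_le_mul_right _ hYF
  have h6 : L ⊔ F = Y ⊔ F := Subgroup.eq_of_le_of_card_ge (sup_le_sup_right hLY F) h3
  rw [h6]
  exact le_sup_left

end Fr

namespace BadAt

variable {h : Fr K S P V F L U} {w p : G} (b : BadAt h w p)
include b

theorem F_relIndex_pt : F.relIndex (MulAut.conj p • h.M.R) = Nat.card K := by
  rw [← inf_relIndex_left, h.pt_inf_F b.pP b.ne, relIndex_bot_left, h.card_pt]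

theorem cos {A : Subgroup G} (hA : A ≤ h.B1) : Cos (c w) A (NN V F) (MulAut.conj p • h.M.R) F where
  mem := fun s hs => b.com s (hA hs)
  iff := fun s hs t ht => by
    rw [h.hyp.c_iff b.wV (hA hs).1 (hA ht).1,
      h.hyp.c_mem_F_iff b.wV b.wE (mul_mem (inv_mem (hA hs).1) (hA ht).1)]

theorem relIndex_B1_le : (NN V F).relIndex h.B1 ≤ Nat.card K := by
  rw [← b.F_relIndex_pt]
  exact (b.cos le_rfl).le

/-- `[w, L^x] = R^p` -/
theorem surj {x : G} (hx : x ∈ centralizer (F : Set G)) (hb : BadX V x) {z : G} (hz : z ∈ MulAut.conj p • h.M.R) :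
    ∃ l ∈ MulAut.conj x • L, c w l = z := by
  have h1 := b.cos (h.conjL_le hx)
  obtain ⟨l, hl, h2⟩ := h1.surj (by rw [b.F_relIndex_pt, h.NN_relIndex_conjL hx hb]) hz
  refine ⟨l, hl, ?_⟩
  have h3 : (c w l)⁻¹ * z ∈ MulAut.conj p • h.M.R ⊓ F :=
    ⟨Subgroup.mul_mem _ (Subgroup.inv_mem _ (h1.mem l hl)) hz, h2⟩
  rw [h.pt_inf_F b.pP b.ne, mem_bot, inv_mul_eq_one] at h3
  exact h3

/-- `B₁ = L^x N` -/
theorem B1_eq {x : G} (hx : x ∈ centralizer (F : Set G)) (hb : BadX V x) {s : G} (hs : s ∈ h.B1) :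
    ∃ l ∈ MulAut.conj x • L, l⁻¹ * s ∈ NN V F := by
  obtain ⟨l, hl, h1⟩ := b.surj hx hb (b.com s hs)
  have hlB := h.conjL_le hx hl
  refine ⟨l, hl, ?_⟩
  rw [← (b.cos (A := h.B1) le_rfl).iff l hlB s hs, h1, inv_mul_cancel]
  exact one_mem _

theorem relIndex_B1 : (NN V F).relIndex h.B1 = Nat.card K := by
  refine le_antisymm b.relIndex_B1_le ?_
  obtain ⟨x, hx, hb⟩ := h.exists_bad
  rw [← h.NN_relIndex_conjL hx hb]
  exact Subgroup.relIndex_le_of_le_right (h.conjL_le hx) Subgroup.index_ne_zero_of_finite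

/-- `|W : N| = r²` -/
theorem relIndex_W : (NN V F).relIndex (WW V F) = Nat.card K * Nat.card K := by
  rw [← relIndex_mul_relIndex (NN V F) h.B1 (WW V F) h.NN_le_B1 h.B1_le_W, b.relIndex_B1, h.relIndex_B1]

/-- `|E : F| = r²` -/
theorem relIndex_E : F.relIndex (EE V F) = Nat.card K * Nat.card K := by
  rw [← h.hyp.relIndex_NN, b.relIndex_W]

/-- `V ∩ U ≤ L F` -/
theorem VU_le : V ⊓ U ≤ L ⊔ F := by
  refine h.card_le_LF inf_le_left ?_ h.L_le_VU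
  have h1 := h.iso
  rw [b.relIndex_W] at h1
  by_contra hlt
  push Not at hlt
  have := Nat.mul_lt_mul'' hlt hlt
  omega

/-- `C_V(L^x) = L F` -/
theorem cent_conjL {x : G} (hx : x ∈ centralizer (F : Set G)) (hb : BadX V x) :
    V ⊓ centralizer ((MulAut.conj x • L : Subgroup G) : Set G) = L ⊔ F := by
  apply le_antisymm
  · rintro v ⟨hv, hvL⟩
    have hvE : v ∈ EE V F := by
      obtain ⟨l, hl, hlN⟩ := h.exists_conjL hx hb
      refine h.hyp.mem_E_of_c hv (h.conjL_le hx hl).1 hlN ?_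
      have h1 : c v l = 1 := by
        rw [c_def, ← mem_centralizer_iff.1 hvL l hl]
        group
      rw [h1]
      exact one_mem _
    refine h.cent_E.le (mem_inf.2 ⟨hvE, mem_centralizer_iff.2 ?_⟩)
    intro s hs
    obtain ⟨l, hl, hn⟩ := b.B1_eq hx hb hs
    have h1 := mem_centralizer_iff.1 hvL l hl
    have h2 := mem_centralizer_iff.1 hn.2 v hvE
    calc s * v = l * (l⁻¹ * s * v) := by group
      _ = l * (v * (l⁻¹ * s)) := by rw [h2]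
      _ = (l * v) * (l⁻¹ * s) := by group
      _ = v * s := by rw [h1]; group
  · refine h.cent_V.ge.trans (inf_le_inf_left _ (centralizer_le (h.conjL_le hx)))

/-- **(d)** `[E, B₁] ≤ R` -/
theorem comm_E {e s : G} (he : e ∈ EE V F) (hs : s ∈ h.B1) : c e s ∈ h.M.R := by
  obtain ⟨t, ht, hte⟩ := h.hyp.surj b.wV b.wE he
  have hcV := h.hyp.c_memV b.wV ht
  have h1 : c e s = c (c w t) s := by
    refine h.hyp.c_congr_left he.1 hcV hs.1 ?_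
    rw [h.hyp.V_comm (inv_mem he.1) hcV]
    exact hte
  rw [h1, h.hyp.beta_comm b.wV ht hs.1]
  exact h.comm_LF (le_sup_left (a := L) (b := F) (h.pt_le b.pP (b.com s hs))) ht

/-- **(e)** `|V : E| ≤ r` -/
theorem relIndex_V_le : (EE V F).relIndex V ≤ Nat.card K := by
  obtain ⟨x, hx, hb⟩ := h.exists_bad
  obtain ⟨l, hl, hlN⟩ := h.exists_conjL hx hb
  have hlB := h.conjL_le hx hl
  have hlU := h.conjL_le_U hx hl
  have hcos := h.hyp.cos_V hlB.1 hlN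
  have h1 : Cos (fun v => c v l) V (EE V F) (L ⊔ F) F :=
    { mem := fun v hv => by
        refine b.VU_le ⟨h.hyp.c_memV hv hlB.1, ?_⟩
        have hvN : v ∈ normalizer (U : Set G) := h.UN (h.CF_le_CR (h.hyp.V_le_X hv))
        show c v l ∈ U
        rw [c_def]
        exact mul_mem ((mem_normalizer_iff.1 hvN l).1 hlU) (inv_mem hlU)
      iff := hcos.iff }
  refine h1.le.trans ?_
  have h2 := card_mul_relIndex' (le_sup_right : F ≤ L ⊔ F)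
  rw [h.card_LF, mul_comm (Nat.card K)] at h2
  exact (Nat.eq_of_mul_eq_mul_left Nat.card_pos h2).le

end BadAt

namespace Fr

variable (h : Fr K S P V F L U)
include h

/-- If `l ∈ L F` and `[l, Q] ≤ R^p ≠ R` then `[l, Q] = 1`. -/
theorem cent_of_LF {l p : G} (hl : l ∈ L ⊔ F) (hp : p ∈ P) (hne : MulAut.conj p • h.M.R ≠ h.M.R)
    (hlQ : ∀ s ∈ h.Q, c l s ∈ MulAut.conj p • h.M.R) : l ∈ centralizer (h.Q : Set G) := by
  obtain ⟨s, hs, hsL⟩ := SetLike.not_le_iff_exists.1 h.mv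
  have hlV : l ∈ V := sup_le h.LV h.hyp.F_le_V hl
  rw [mem_centralizer_iff]
  intro t ht
  have hsP : s ∈ P := h.SP (h.WS hs)
  have ht' : s⁻¹ * t * s ∈ h.Q := by
    have := (mem_normalizer_iff.1 (h.PQ (inv_mem hsP)) t).1 ht
    rwa [inv_inv] at this
  have h1 := hlQ _ ht'
  -- `s [l, s⁻¹ t s] s⁻¹ = [s l s⁻¹, t] = [l, t]`
  have hr : s * l * s⁻¹ * l⁻¹ ∈ h.M.R := by
    have h2 := inv_mem (h.comm_LF hl hs)
    have e : s * l * s⁻¹ * l⁻¹ = (c l s)⁻¹ := by rw [c]; group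
    rw [e]
    exact h2
  have h3 : s * c l (s⁻¹ * t * s) * s⁻¹ = c l t := by
    have htr : t * (s * l * s⁻¹ * l⁻¹) = s * l * s⁻¹ * l⁻¹ * t :=
      (mem_centralizer_iff.1 ht.2 _ (h.M.R_le hr)).symm
    have htr' : t⁻¹ * (s * l * s⁻¹ * l⁻¹)⁻¹ = (s * l * s⁻¹ * l⁻¹)⁻¹ * t⁻¹ := by
      rw [← mul_inv_rev, ← mul_inv_rev, htr]
    have e1 : s * c l (s⁻¹ * t * s) * s⁻¹ =
        (s * l * s⁻¹ * l⁻¹) * (l * t * l⁻¹) * ((s * l * s⁻¹ * l⁻¹)⁻¹ * t⁻¹) := by rw [c]; group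
    have hltV : l * t * l⁻¹ * (s * l * s⁻¹ * l⁻¹)⁻¹ = (s * l * s⁻¹ * l⁻¹)⁻¹ * (l * t * l⁻¹) := by
      have hrV := h.R_le_V hr
      have e2 : l⁻¹ * (s * l * s⁻¹ * l⁻¹)⁻¹ = (s * l * s⁻¹ * l⁻¹)⁻¹ * l⁻¹ :=
        h.hyp.V_comm (inv_mem hlV) (inv_mem hrV)
      have e3 : t * (s * l * s⁻¹ * l⁻¹)⁻¹ = (s * l * s⁻¹ * l⁻¹)⁻¹ * t := by
        rw [mul_inv_eq_iff_eq_mul, mul_assoc, htr]; group
      have e4 : l * (s * l * s⁻¹ * l⁻¹)⁻¹ = (s * l * s⁻¹ * l⁻¹)⁻¹ * l := h.hyp.V_comm hlV (inv_mem hrV)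
      calc l * t * l⁻¹ * (s * l * s⁻¹ * l⁻¹)⁻¹ = l * t * (l⁻¹ * (s * l * s⁻¹ * l⁻¹)⁻¹) := by group
        _ = l * (t * (s * l * s⁻¹ * l⁻¹)⁻¹) * l⁻¹ := by rw [e2]; group
        _ = (l * (s * l * s⁻¹ * l⁻¹)⁻¹) * t * l⁻¹ := by rw [e3]; group
        _ = (s * l * s⁻¹ * l⁻¹)⁻¹ * (l * t * l⁻¹) := by rw [e4]; group
    have e5 : (s * l * s⁻¹ * l⁻¹) * (l * t * l⁻¹) * ((s * l * s⁻¹ * l⁻¹)⁻¹ * t⁻¹) =
        (s * l * s⁻¹ * l⁻¹) * ((l * t * l⁻¹) * (s * l * s⁻¹ * l⁻¹)⁻¹) * t⁻¹ := by group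
    rw [e1, e5, hltV, c]
    group
  have h4 : c l (s⁻¹ * t * s) = 1 := by
    refine h.pt_move hp hne hs hsL h1 ?_
    rw [h3]
    exact hlQ t ht
  rw [h4, mul_one, mul_inv_cancel] at h3
  rw [c_def, eq_comm, mul_inv_eq_one, mul_inv_eq_iff_eq_mul] at h3
  exact h3.symm

/-- **(f)** `v ∈ V - L`, `[v, C_S(R)] ≤ R`, `R^p ≠ R`: `w = v^p ∉ E` and `[w, B₁] ≤ R^p`, so `BadAt h (v^p) p`. -/
theorem badAt (hQ : V ⊓ centralizer (h.Q : Set G) ≤ L) {v p : G} (hv : v ∈ V) (hvL : v ∉ L)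
    (hvR : ∀ s ∈ h.Q, c v s ∈ h.M.R) (hp : p ∈ P) (hne : MulAut.conj p • h.M.R ≠ h.M.R) :
    BadAt h (p * v * p⁻¹) p := by
  have hlV : p * v * p⁻¹ ∈ V := by
    have := cj_mem_cj (g := p) hv
    rwa [h.cjV hp] at this
  have hlQ : ∀ s ∈ h.Q, c (p * v * p⁻¹) s ∈ MulAut.conj p • h.M.R := by
    intro s hs
    have hs' : p⁻¹ * s * p ∈ h.Q := by
      have := (mem_normalizer_iff.1 (h.PQ (inv_mem hp)) s).1 hs
      rwa [inv_inv] at this
    have h1 := cj_mem_cj (g := p) (hvR _ hs')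
    have e : c (p * v * p⁻¹) s = p * c v (p⁻¹ * s * p) * p⁻¹ := by rw [c, c]; group
    rw [e]
    exact h1
  refine ⟨hlV, ?_, hp, hne, fun b hb => hlQ b (h.B1_le_Q hb)⟩
  intro hlE
  have h1 : p * v * p⁻¹ ∈ L ⊔ F := by
    refine h.cent_E.le (mem_inf.2 ⟨hlE, mem_centralizer_iff.2 ?_⟩)
    intro b hb
    have h2 : c (p * v * p⁻¹) b ∈ MulAut.conj p • h.M.R ⊓ F :=
      ⟨hlQ b (h.B1_le_Q hb), h.hyp.comm_EW hlE hb.1⟩
    rw [h.pt_inf_F hp hne, mem_bot, c_def, mul_inv_eq_one, mul_inv_eq_iff_eq_mul] at h2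
    exact h2.symm
  have h2 := hQ ⟨hlV, h.cent_of_LF h1 hp hne hlQ⟩
  apply hvL
  have h3 : p * v * p⁻¹ ∈ MulAut.conj p • L := by rwa [h.cjL hp]
  have h4 := mem_cj.1 h3
  have e : p⁻¹ * (p * v * p⁻¹) * p = v := by group
  rwa [e] at h4

end Fr

end Cfsg.Agent.Omega.BetaFF
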