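import Cfsg.Agent.Omega.NO3S.BetaFF.FourB
import Cfsg.Agent.Omega.NOne.Flat.QU

/-!
# THEOREM BETA-FF(1) (helper284 #19171): UNIQ over `R`

The frame `Fr K S P V F V_P U` (`W_F ≤ S` moves the natural line `V_P`, `|K| > 2`), no pair of lines of `P*(S)` acting
on each other (`NOff`): for all `P₂ ∈ P*(S)` with `P₂ ≤ N(V)` and `V_{P₂} ≤ V ∩ U`: `V_{P₂} ≤ R` or `V_{P₂} = V_P`.
-/

set_option autoImplicit false

namespace Cfsg.Agent.Omega.BetaFF

open Subgroup Cfsg Cfsg.Agent.Omega.NOne.Flat Cfsg.Agent.Omega.NO3S.Fld Cfsg.Agent.Omega.MinPar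
open Cfsg.Agent.Omega.NOne.NearFF (c c_def)
open Cfsg.Agent.ZN (o2 zl zc)
open Cfsg.Agent.MinSimple.VModule (zc_le zc_le_zl zl_le le_o2 le_normalizer_zl le_normalizer_o2 oddGen oddGen_le)
open Cfsg.Agent.Omega.FFThm (OffM NoOverM StmtM)
open Cfsg.Agent.Omega.NO3S.BetaFF.EndB (Line PtLine Side Inp)
open scoped Pointwise

universe u

variable {G : Type u} [Group G] [Finite G] {S : Sylow 2 G} {P P₂ V F U : Subgroup G}

/-- A natural line, over `B = C_S(R)`. -/
theorem ptLine_of {K : Type*} [Field K] (hG : IsCharacteristicTwoType G) (hP : IsParS (S : Subgroup G) P)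
    (M : Crd K (S : Subgroup G) P (zl (S : Subgroup G) P)) :
    PtLine ((S : Subgroup G) ⊓ centralizer (M.R : Set G)) P M.R (zl (S : Subgroup G) P) where
  SP := inf_le_left.trans hP.le
  norm := le_normalizer_zl _ _
  ZL := M.R_le
  comm := fun l hl s hs => by
    have h1 := inv_mem (M.comm_R hs.1 hs.2 hl)
    have e : c l s = (s * l * s⁻¹ * l⁻¹)⁻¹ := by rw [c]; group
    rw [e]
    exact h1
  core := fun g hg s hs hsL => by
    have h1 : s ∈ o2 P := by
      rw [← hP.inf_centralizer S hG]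
      exact ⟨hs.1, hsL⟩
    have h2 := (mem_normalizer_iff.1 (le_normalizer_o2 P hg) s).1 h1
    rw [← hP.inf_centralizer S hG] at h2
    exact ⟨h2.1, centralizer_le M.R_le h2.2⟩
  ti := fun g hg hne => crd_ti M (le_normalizer_zl _ _) hg hne
  mv := fun g hg hne s hs hsL => crd_mv M (le_normalizer_zl _ _) hg hne hs.1 hs.2 hsL

/-- The lines of `P*(S)` do not act on each other. -/
def NOff (S : Subgroup G) : Prop := ∀ Q, IsParS S Q → ∀ Q', IsParS S Q' → ∀ g : G,
  zl S Q ≤ MulAut.conj g • Q' → MulAut.conj g • zl S Q' ≤ Q →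
    zl S Q ≤ centralizer ((MulAut.conj g • zl S Q' : Subgroup G) : Set G)

namespace Fr

variable {K : Type*} [Field K]

/-- All lines on a point `R^g ≤ F` lie in `E`. -/
theorem low_of {L : Subgroup G} (h : Fr K S P V F L U) {g : G} (hg : g ∈ normalizer (V : Set G)) {X : Subgroup G}
    (hX : X ≤ V) (hXU : X ≤ U) (hF : MulAut.conj g • h.M.R ≤ F) : MulAut.conj g • X ≤ EE V F := by
  have h1 : MulAut.conj g • X ≤ V := by
    rw [← NOne.Flat.conj_eq_of_norm hg]
    exact Subgroup.pointwise_smul_le_pointwise_smul_iff.2 hX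
  refine le_inf h1 fun x hx => ?_
  have h2 : MulAut.conj g • X ≤ o2 (centralizer ((MulAut.conj g • h.M.R : Subgroup G) : Set G)) := by
    rw [← NOne.Flat.conj_centralizer, ← NOne.Flat.o2_conj]
    exact Subgroup.pointwise_smul_le_pointwise_smul_iff.2 (hXU.trans h.Uo2)
  exact NOne.Flat.o2_inf_le_o2 (centralizer_le hF) ⟨h2 hx, h.hyp.V_le_X (h1 hx)⟩

/-- **THEOREM BETA-FF(1), UNIQ over `R`.** -/
theorem le_or_eq (hFF : StmtM.{u}) (hG : IsCharacteristicTwoType G) (hP : IsParS (S : Subgroup G) P)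
    (h : Fr K S P V F (zl (S : Subgroup G) P) U) (hK : 2 < Nat.card K) (hno : NOff (S : Subgroup G))
    (h₂ : IsParS (S : Subgroup G) P₂) (hPV : P₂ ≤ normalizer (V : Set G)) (hV : zl (S : Subgroup G) P₂ ≤ V)
    (hU : zl (S : Subgroup G) P₂ ≤ U) :
    zl (S : Subgroup G) P₂ ≤ h.M.R ∨ zl (S : Subgroup G) P₂ = zl (S : Subgroup G) P := by
  by_contra hcon
  push Not at hcon
  obtain ⟨hne, hneq⟩ := hcon
  -- `E₂ ∩ L ≤ R`
  have hinf : zl (S : Subgroup G) P₂ ⊓ zl (S : Subgroup G) P ≤ h.M.R := by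
    by_contra hn
    obtain ⟨v, hv, hvR⟩ := SetLike.not_le_iff_exists.1 hn
    exact hneq (h.four_a hFF hG hP h₂ hV hU hv.1 hv.2 hvR)
  obtain ⟨x, hx, hb⟩ := h.exists_bad
  have o := h.four_b hFF hG hP hK h₂ hV hne hinf hx hb
  obtain ⟨F₂, _, _, _, M₂, hM₂⟩ := o.nat
  have hWB : WW V F ≤ (S : Subgroup G) ⊓ centralizer (h.M.R : Set G) := le_inf h.WS h.WR
  have l1 := (ptLine_of hG hP h.M).toLine
  have l2 := ptLine_of hG h₂ M₂
  rw [hM₂] at l2
  have inp : Inp V F ((S : Subgroup G) ⊓ centralizer (h.M.R : Set G)) P P₂ h.M.R (zl (S : Subgroup G) P)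
      (zl (S : Subgroup G) P₂) x :=
    { hyp := h.hyp
      WS := hWB
      l := l1
      l₂ := l2
      LV := h.LV
      L₂V := hV
      PV := h.PV
      P₂V := hPV
      ZF := h.R_le_F
      low := fun g hg hF => h.low_of (hPV hg) h.LV h.LU hF
      low₂ := h.zl_le_E hV hU
      noff := fun g h1 h2 => hno P hP P hP g h1 h2
      noff₂ := fun g h1 h2 => hno P₂ h₂ P hP g h1 h2
      hx := hx
      D := o.D
      inf := by rw [inf_comm]; exact hinf }
  refine inp.false_of h.mv ⟨o.E, o.span⟩ (fun hm => ?_) o.hB o.hA ?_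
  · -- the frame of `P₂`
    obtain ⟨fr₂, hfr⟩ : ∃ fr : Fr F₂ S P₂ V F (zl (S : Subgroup G) P₂) U, fr.M.R = h.M.R := ⟨
      { hyp := h.hyp
        SP := h₂.le
        PV := hPV
        PL := le_normalizer_zl _ _
        LV := hV
        M := M₂
        WS := h.WS
        WR := by rw [hM₂]; exact h.WR
        mv := hm
        PQ := by rw [h₂.inf_centralizer S hG]; exact le_normalizer_o2 P₂
        LU := hU
        Ucomm := h.Ucomm
        Uo2 := by rw [hM₂]; exact h.Uo2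
        UN := by rw [hM₂]; exact h.UN }, hM₂⟩
    have hcK : 2 < Nat.card F₂ := by rw [← M₂.card_R, hM₂, h.M.card_R]; exact hK
    have o₂ := fr₂.four_b hFF hG h₂ hcK hP h.LV (by
      rw [hfr]
      obtain ⟨v, hv, hvR⟩ := h.M.exists_ne_R
      exact fun hle => hvR (hle hv)) (by
      rw [hfr, inf_comm]
      exact hinf) hx hb
    have hE := o₂.E
    rw [hfr] at hE
    exact ⟨hE, o₂.span⟩
  · obtain ⟨g, hg, h1⟩ := crd_exists_mv M₂
    rw [hM₂] at h1
    exact ⟨g, hg, h1⟩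

end Fr

end Cfsg.Agent.Omega.BetaFF
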