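import Cfsg.Agent.Omega.NO3S.BetaFF.Frame

/-!
# THEOREM BETA-FF(1) (helper284 #19171), section (0)

`r = |K|`.  `W` induces every root element on `L` (`exists_act`), `|W : B₁| = r`, `C_E(B₁) = C_V(B₁) = L F`,
`L^x ≤ B₁`, `L^x ∩ N = R` for bad `x ∈ C_G(F)`, and ISOTROPY `|Y : Y ∩ F|² ≤ |W : N|` for `Y = V ∩ U`.
-/

set_option autoImplicit false

namespace Cfsg.Agent.Omega.BetaFF

open Subgroup Cfsg Cfsg.Agent.Omega.NOne.Flat Cfsg.Agent.Omega.NO3S.Fld
open Cfsg.Agent.Omega.NOne.NearFF (c c_def)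
open Cfsg.Agent.ZN (o2)
open scoped Pointwise

universe u

namespace Fr

variable {K : Type*} [Field K] {G : Type u} [Group G] [Finite G] {S : Sylow 2 G} {P V F L U : Subgroup G}
  (h : Fr K S P V F L U)
include h

theorem finK : Finite K := by
  refine Finite.of_injective (fun a : K => h.M.e ![a, 0]) fun a b hab => ?_
  have := congrFun (h.M.e_inj hab) 0
  simpa using this

theorem card_pos : 0 < Nat.card K := by
  have := h.finK
  exact Nat.card_pos

theorem one_lt_card : 1 < Nat.card K := by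
  have := h.finK
  exact Finite.one_lt_card

theorem relIndex_R_L : h.M.R.relIndex L = Nat.card K := by
  have h1 := card_mul_relIndex' h.M.R_le
  rw [h.M.card_R, h.M.card_V] at h1
  exact Nat.eq_of_mul_eq_mul_left h.card_pos h1

theorem exists_root {w : G} (hw : w ∈ WW V F) : ∃ a, h.M.Act w (RingEquiv.refl K) a :=
  h.M.exists_root (h.WS hw) (h.WR hw)

/-- the root parameter of `w ∈ W` -/
noncomputable def par : WW V F →* Multiplicative K where
  toFun w := Multiplicative.ofAdd (h.exists_root w.2).choose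
  map_one' := by
    have h1 := (h.exists_root (one_mem (WW V F))).choose_spec
    have h2 := (h1.unique Crd.act_one').2
    exact congrArg Multiplicative.ofAdd h2
  map_mul' a b := by
    have h1 := (h.exists_root (a * b).2).choose_spec
    have ha := (h.exists_root a.2).choose_spec
    have hb := (h.exists_root b.2).choose_spec
    have h2 := (h1.unique (ha.mul hb)).2
    exact congrArg Multiplicative.ofAdd h2

theorem act_par (w : WW V F) : h.M.Act (w : G) (RingEquiv.refl K) (h.par w).toAdd :=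
  (h.exists_root w.2).choose_spec

theorem ker_par : h.par.ker = (centralizer (L : Set G)).subgroupOf (WW V F) := by
  ext w
  rw [MonoidHom.mem_ker, mem_subgroupOf, (h.act_par w).mem_centV]
  constructor
  · intro h1
    exact ⟨rfl, by rw [h1]; rfl⟩
  · rintro ⟨-, h1⟩
    exact Multiplicative.toAdd.injective h1

/-- `r ≤ |W : C_W(L)|` -/
theorem le_relIndex : Nat.card K ≤ (centralizer (L : Set G)).relIndex (WW V F) := by
  have h1 := h.hyp.off_of_le_all h.L_le_E
  rw [← inf_relIndex_left, h.L_inf_CW, h.relIndex_R_L] at h1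
  exact h1

theorem par_surj : Function.Surjective h.par := by
  have := h.finK
  rw [← MonoidHom.range_eq_top]
  have h1 : Nat.card h.par.range = (centralizer (L : Set G)).relIndex (WW V F) := by
    rw [← Subgroup.index_ker, h.ker_par]
    rfl
  refine Subgroup.eq_top_of_le_card _ ?_
  rw [h1]
  exact h.le_relIndex

/-- **(0)** `W` induces the full root group on `L`. -/
theorem exists_act (a : K) : ∃ w ∈ WW V F, h.M.Act w (RingEquiv.refl K) a := by
  obtain ⟨w, hw⟩ := h.par_surj (Multiplicative.ofAdd a)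
  refine ⟨w, w.2, ?_⟩
  have := h.act_par w
  rwa [hw] at this

theorem relIndex_cent : (centralizer (L : Set G)).relIndex (WW V F) = Nat.card K := by
  have h1 : Nat.card h.par.range = (centralizer (L : Set G)).relIndex (WW V F) := by
    rw [← Subgroup.index_ker, h.ker_par]
    rfl
  rw [← h1, MonoidHom.range_eq_top.2 h.par_surj, Nat.card_congr (Subgroup.topEquiv (G := Multiplicative K)).toEquiv]
  rfl

theorem relIndex_B1 : h.B1.relIndex (WW V F) = Nat.card K := by
  have h1 : (WW V F ⊓ centralizer (L : Set G)).relIndex (WW V F) = (centralizer (L : Set G)).relIndex (WW V F) :=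
    inf_relIndex_left _ _
  exact h1.trans h.relIndex_cent

/-! ### `C_E(B₁)` -/

theorem L_le_CB1 : L ≤ centralizer (h.B1 : Set G) := by
  intro l hl
  rw [mem_centralizer_iff]
  exact fun b hb => (mem_centralizer_iff.1 hb.2 l hl).symm

theorem F_le_CB1 : F ≤ centralizer (h.B1 : Set G) := by
  intro f hf
  rw [mem_centralizer_iff]
  intro b hb
  have hbX : b ∈ centralizer (F : Set G) := NOne.Flat.Hyp.W_le_X (V := V) (F := F) hb.1
  exact (mem_centralizer_iff.1 hbX f hf).symm

theorem F_le_CW : F ≤ centralizer (WW V F : Set G) := h.hyp.cent_VW.ge.trans inf_le_right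

theorem card_LF : Nat.card ↥(L ⊔ F) = Nat.card K * Nat.card F := by
  have hn : L ≤ normalizer (F : Set G) :=
    (h.LV.trans h.hyp.V_le_X).trans (centralizer_le_normalizer _)
  have h1 := NOne.Flat.Off.card_sup_mul_inf hn
  rw [h.L_inf_F, h.M.card_R, h.M.card_V] at h1
  have h2 := h.card_pos
  refine Nat.eq_of_mul_eq_mul_right h2 ?_
  rw [h1]
  ring

/-- **(0)** `C_E(B₁) = L F` -/
theorem cent_E : EE V F ⊓ centralizer (h.B1 : Set G) = L ⊔ F := by
  symm
  have hle : L ⊔ F ≤ EE V F ⊓ centralizer (h.B1 : Set G) :=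
    sup_le (le_inf h.L_le_E h.L_le_CB1) (le_inf h.hyp.F_le_E h.F_le_CB1)
  refine Subgroup.eq_of_le_of_card_ge hle ?_
  set Y : Subgroup G := EE V F ⊓ centralizer (h.B1 : Set G) with hY
  have hFY : F ≤ Y := le_sup_right.trans hle
  have h1 := h.hyp.off_of_le_all (inf_le_left : Y ≤ EE V F)
  have h2 : (centralizer (WW V F : Set G)).relIndex Y = F.relIndex Y := by
    rw [← inf_relIndex_right]
    congr 1
    apply le_antisymm
    · rintro y ⟨hy, hyY⟩
      exact h.hyp.cent_VW.le ⟨hyY.1.1, hy⟩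
    · exact le_inf h.F_le_CW hFY
  have h3 : (centralizer (Y : Set G)).relIndex (WW V F) ≤ Nat.card K := by
    rw [← h.relIndex_B1]
    refine Subgroup.relIndex_le_of_le_left ?_ ?_
    · intro b hb
      rw [mem_centralizer_iff]
      exact fun y hy => (mem_centralizer_iff.1 hy.2 b hb).symm
    · rw [h.relIndex_B1]
      exact h.card_pos.ne'
  rw [h.card_LF, ← card_mul_relIndex' hFY, mul_comm]
  refine Nat.mul_le_mul_right _ ?_
  rw [← h2]
  exact h1.trans h3

/-- `[v, s] ∈ R` for `v ∈ L F`, `s ∈ W` -/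
theorem comm_LF {v s : G} (hv : v ∈ L ⊔ F) (hs : s ∈ WW V F) : c v s ∈ h.M.R := by
  have hn : L ≤ normalizer (F : Set G) :=
    (h.LV.trans h.hyp.V_le_X).trans (centralizer_le_normalizer _)
  rw [← SetLike.mem_coe, coe_mul_of_left_le_normalizer_right L F hn] at hv
  obtain ⟨l, hl, f, hf, rfl⟩ := hv
  have h1 : c (l * f) s = c l s := by
    have h2 := h.hyp.c_mul_left (h.LV hl) (h.hyp.F_le_V hf) hs
    rw [h2, NOne.Flat.Hyp.c_F hf hs, mul_one]
  show c (l * f) s ∈ h.M.R
  rw [h1]
  have h2 := inv_mem (h.M.comm_R (h.WS hs) (h.WR hs) hl)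
  have e : c l s = (s * l * s⁻¹ * l⁻¹)⁻¹ := by rw [c]; group
  rw [e]
  exact h2

/-! ### `L^x` for bad `x` -/

theorem exists_bad : ∃ x ∈ centralizer (F : Set G), BadX V x := by
  obtain ⟨w, hw, hwE⟩ := h.hyp.exists_not_mem
  obtain ⟨x, hx, hb, -⟩ := h.hyp.exists_near hw hwE
  exact ⟨x, hx, hb⟩

theorem conjU {x : G} (hx : x ∈ centralizer (F : Set G)) : MulAut.conj x • U = U :=
  NOne.Flat.conj_eq_of_norm (h.UN (h.CF_le_CR hx))

theorem conjL_le_W {x : G} (hx : x ∈ centralizer (F : Set G)) : MulAut.conj x • L ≤ WW V F :=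
  (Subgroup.pointwise_smul_le_pointwise_smul_iff.2 h.L_le_E).trans (NOne.Flat.Hyp.conjE_le_W hx)

theorem conjL_le_U {x : G} (hx : x ∈ centralizer (F : Set G)) : MulAut.conj x • L ≤ U := by
  have h1 : MulAut.conj x • L ≤ MulAut.conj x • U := Subgroup.pointwise_smul_le_pointwise_smul_iff.2 h.LU
  rwa [h.conjU hx] at h1

/-- `L^x ≤ B₁` -/
theorem conjL_le {x : G} (hx : x ∈ centralizer (F : Set G)) : MulAut.conj x • L ≤ h.B1 :=
  le_inf (h.conjL_le_W hx) ((h.conjL_le_U hx).trans (h.Ucomm.trans (centralizer_le h.LU)))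

theorem conjR {x : G} (hx : x ∈ centralizer (F : Set G)) : MulAut.conj x • h.M.R = h.M.R :=
  NOne.Flat.conj_eq_of_cent (h.CF_le_CR hx)

theorem conjL_inf_F {x : G} (hx : x ∈ centralizer (F : Set G)) : MulAut.conj x • L ⊓ F = h.M.R := by
  have h1 : MulAut.conj x • (L ⊓ F) = MulAut.conj x • h.M.R := by rw [h.L_inf_F]
  rw [h.conjR hx, Subgroup.smul_inf] at h1
  have h2 : MulAut.conj x • F = F := NOne.Flat.conj_eq_of_cent hx
  rw [← h1]
  exact congrArg (fun T => MulAut.conj x • L ⊓ T) h2.symm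

/-- `L^x ∩ N = R` for bad `x` -/
theorem conjL_inf {x : G} (hx : x ∈ centralizer (F : Set G)) (hb : BadX V x) :
    MulAut.conj x • L ⊓ NN V F = h.M.R := by
  apply le_antisymm
  · rintro y ⟨hy, hyN⟩
    rw [← SetLike.mem_coe, ← h.conjL_inf_F hx]
    refine ⟨hy, ?_⟩
    have h1 : y ∈ MulAut.conj x • EE V F ⊓ NN V F :=
      ⟨Subgroup.pointwise_smul_le_pointwise_smul_iff.2 h.L_le_E hy, hyN⟩
    exact (h.hyp.conjE_inf_NN hx hb).le h1
  · refine le_inf ?_ (h.R_le_F.trans h.hyp.F_le_NN)
    exact (h.conjL_inf_F hx).ge.trans inf_le_left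

theorem exists_conjL {x : G} (hx : x ∈ centralizer (F : Set G)) (hb : BadX V x) :
    ∃ l ∈ MulAut.conj x • L, l ∉ NN V F := by
  by_contra hcon
  push Not at hcon
  have h1 : MulAut.conj x • L ≤ h.M.R := (le_inf le_rfl hcon).trans (h.conjL_inf hx hb).le
  have h2 : Nat.card ↥(MulAut.conj x • L) = Nat.card L := Nat.card_congr (Subgroup.equivSMul _ L).toEquiv.symm
  have h3 := Subgroup.card_le_of_le h1
  rw [h2, h.M.card_V, h.M.card_R] at h3
  have h4 := h.one_lt_card
  nlinarith

/-- **(0)** `C_V(B₁) = L F` -/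
theorem cent_V : V ⊓ centralizer (h.B1 : Set G) = L ⊔ F := by
  apply le_antisymm
  · rintro v ⟨hv, hvB⟩
    rw [← SetLike.mem_coe, ← h.cent_E]
    refine ⟨?_, hvB⟩
    by_contra hvE
    obtain ⟨x, hx, hb⟩ := h.exists_bad
    obtain ⟨l, hl, hlN⟩ := h.exists_conjL hx hb
    have hlB := h.conjL_le hx hl
    apply hlN
    rw [← h.hyp.c_mem_F_iff hv hvE hlB.1]
    have h1 : c v l = 1 := by
      rw [c_def, ← mem_centralizer_iff.1 hvB l hlB]
      group
    rw [h1]
    exact one_mem _
  · exact h.cent_E.ge.trans (inf_le_inf_right _ inf_le_left)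

/-! ### ISOTROPY -/

/-- **(0) ISOTROPY** `|Y : Y ∩ F|² ≤ |W : N|` for `Y = V ∩ U`. -/
theorem iso : F.relIndex (V ⊓ U) * F.relIndex (V ⊓ U) ≤ (NN V F).relIndex (WW V F) := by
  obtain ⟨x, hx, hb⟩ := h.exists_bad
  set Y : Subgroup G := V ⊓ U with hY
  have hYE : Y ≤ EE V F := h.VU_le_E
  set C : Subgroup G := WW V F ⊓ centralizer (Y : Set G) with hC
  have hNC : NN V F ≤ C := inf_le_inf_left _ (centralizer_le hYE)
  have hYx : MulAut.conj x • Y ≤ C := by
    refine le_inf ?_ ?_
    · exact (Subgroup.pointwise_smul_le_pointwise_smul_iff.2 hYE).trans (NOne.Flat.Hyp.conjE_le_W hx)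
    · have h1 : MulAut.conj x • Y ≤ MulAut.conj x • U := Subgroup.pointwise_smul_le_pointwise_smul_iff.2 inf_le_right
      rw [h.conjU hx] at h1
      exact h1.trans (h.Ucomm.trans (centralizer_le inf_le_right))
  have h1 := relIndex_mul_relIndex (NN V F) C (WW V F) hNC inf_le_left
  rw [← h1]
  have h2 : F.relIndex Y = (NN V F).relIndex (MulAut.conj x • Y) := by
    have e1 : (NN V F).relIndex (MulAut.conj x • Y) = F.relIndex (MulAut.conj x • Y) := by
      rw [← inf_relIndex_right (NN V F), ← inf_relIndex_right F]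
      congr 1
      apply le_antisymm
      · rintro y ⟨hy, hyY⟩
        have h3 : y ∈ MulAut.conj x • EE V F ⊓ NN V F :=
          ⟨Subgroup.pointwise_smul_le_pointwise_smul_iff.2 hYE hyY, hy⟩
        exact ⟨(h.hyp.conjE_inf_NN hx hb).le h3, hyY⟩
      · exact inf_le_inf_right _ h.hyp.F_le_NN
    have e2 : F.relIndex (MulAut.conj x • Y) = (MulAut.conj x • F).relIndex (MulAut.conj x • Y) := by
      rw [NOne.Flat.conj_eq_of_cent hx]
    rw [e1, e2, Subgroup.relIndex_pointwise_smul]
  have h3 : (NN V F).relIndex (MulAut.conj x • Y) ≤ (NN V F).relIndex C :=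
    Subgroup.relIndex_le_of_le_right hYx Subgroup.index_ne_zero_of_finite
  have h4 : F.relIndex Y ≤ C.relIndex (WW V F) := by
    have h5 := h.hyp.off_of_le_all hYE
    have h6 : (centralizer (WW V F : Set G)).relIndex Y = F.relIndex Y := by
      rw [← inf_relIndex_right, ← inf_relIndex_right F]
      congr 1
      apply le_antisymm
      · rintro y ⟨hy, hyY⟩
        exact ⟨h.hyp.cent_VW.le ⟨hyY.1, hy⟩, hyY⟩
      · exact inf_le_inf_right _ h.F_le_CW
    have h7 : C.relIndex (WW V F) = (centralizer (Y : Set G)).relIndex (WW V F) := inf_relIndex_left _ _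
    rw [h6] at h5
    rw [h7]
    exact h5
  exact Nat.mul_le_mul (h2.le.trans h3) h4

end Fr

end Cfsg.Agent.Omega.BetaFF
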